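import Cfsg.Agent.Lib.FixityFour61.Common
import Cfsg.Agent.Lib.FixityTwoSylow.Basic

/-!
# Fixity four: every involution fixes the same number `k ≤ 3` of points

helper61, for S3365.
-/

set_option autoImplicit false

namespace Cfsg.Agent.Lib.FixityFour61

open MulAction

variable {G : Type*} [Group G] [Finite G] {Ω : Type*} [MulAction G Ω] [Finite Ω] [FaithfulSMul G Ω]
  [IsPretransitive G Ω]

theorem lowFix {k : ℕ} (hk1 : 1 ≤ k) (hk3 : k ≤ 3)
    (hinv : ∀ g : G, orderOf g = 2 → Nat.card (fixedBy Ω g) = k) (hex : ∃ g : G, orderOf g = 2)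
    (S : Sylow 2 G) :
    (∃ H : Subgroup G, Cfsg.IsStronglyEmbedded H) ∨
      FixityTwoSylow.DihedralOrSemi ↥(S : Subgroup G) := by
  classical
  haveI : Fact (Nat.Prime 2) := ⟨Nat.prime_two⟩
  obtain ⟨g₀, hg₀⟩ := hex
  obtain ⟨c₀, -, hc₀⟩ := exists_conj_mem_sylow (H := ⊤) S le_top (Subgroup.mem_top g₀) (n := 1)
    (by rw [hg₀, pow_one])
  have hSbot : (⊤ : Subgroup ↥(S : Subgroup G)) ≠ ⊥ := fun e => by
    have : (⟨_, hc₀⟩ : ↥(S : Subgroup G)) ∈ (⊥ : Subgroup ↥(S : Subgroup G)) := e.le (Subgroup.mem_top _)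
    exact ne_one_of_two hg₀ (conj_eq_one_iff.1 (congrArg Subtype.val (Subgroup.mem_bot.1 this)))
  obtain ⟨c, ⟨-, hcc⟩, hc1⟩ := (Subgroup.bot_or_exists_ne_one _).resolve_left
    (PGroups.normal_inf_center_ne_bot S.isPGroup' ⊤ hSbot)
  obtain ⟨j, hj⟩ := exists_pow_two S.isPGroup' c.2 fun e => hc1 (Subtype.ext e)
  set z : ↥(S : Subgroup G) := c ^ j
  have hzo : orderOf z = 2 := by rw [← Subgroup.orderOf_coe, SubgroupClass.coe_pow]; exact hj
  have hzc : ∀ s : ↥(S : Subgroup G), s * z = z * s :=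
    Subgroup.mem_center_iff.1 ((Subgroup.center _).pow_mem hcc j)
  have hzG : orderOf (z : G) = 2 := by rw [Subgroup.orderOf_coe]; exact hzo
  set Δ : Set Ω := fixedBy Ω (z : G) with hΔdef
  have hΔ : Δ.ncard = k := by rw [← Nat.card_coe_set_eq]; exact hinv _ hzG
  have hSΔ : (S : Subgroup G) ≤ setStab G Δ := fun s hs =>
    fix_setStab_of_comm (congrArg Subtype.val (hzc ⟨s, hs⟩))
  -- a non-trivial element of `S` fixes at most `k` points
  have hle : ∀ s ∈ (S : Subgroup G), ∀ T : Set Ω, (∀ x ∈ T, s • x = x) → k < T.ncard → s = 1 := by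
    intro s hs T hT hlt
    by_contra hs1
    obtain ⟨i, hi⟩ := exists_pow_two S.isPGroup' hs hs1
    have hsub : T ⊆ fixedBy Ω (s ^ i) := fun x hx =>
      (stabilizer G x).pow_mem (show s ∈ stabilizer G x from hT x hx) i
    have := Set.ncard_le_ncard hsub (Set.toFinite _)
    rw [← Nat.card_coe_set_eq (fixedBy Ω (s ^ i)), hinv _ hi] at this
    omega
  by_cases hall : ∀ x ∈ (S : Subgroup G), orderOf x = 2 → fixedBy Ω x = Δ
  · refine Or.inl ⟨_, stronglyEmbedded_setStab (Δ := Δ) (Set.nonempty_of_ncard_ne_zero (by omega))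
      ⟨z, hSΔ z.2, hzG⟩ fun u hu huo => ?_⟩
    obtain ⟨h, hh, hmem⟩ := exists_conj_mem_sylow S hSΔ hu (n := 1) (by rw [huo, pow_one])
    have hoh : orderOf (h * u * h⁻¹) = 2 :=
      (orderOf_injective (MulAut.conj h).toMonoidHom (MulAut.conj h).injective u).trans huo
    have := hall _ hmem hoh
    refine Set.ext fun y => ?_
    rw [← fix_conj (g := h) (u := u), this]
    exact hh y
  refine Or.inr ?_
  push Not at hall
  obtain ⟨x, hxS, hxo, hxΔ⟩ := hall
  set X : Set Ω := fixedBy Ω x with hXdef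
  have hX : X.ncard = k := by rw [← Nat.card_coe_set_eq]; exact hinv _ hxo
  have hx2 := sq_of_two hxo
  obtain ⟨p, hp, hpX⟩ : ∃ p ∈ Δ, p ∉ X := by
    by_contra hno
    push Not at hno
    exact hxΔ (Set.eq_of_subset_of_ncard_le hno (by omega) (Set.toFinite _)).symm
  set q := x • p with hqdef
  have hqp : q ≠ p := hpX
  have hq : q ∈ Δ := (hSΔ hxS p).2 hp
  have hxq : x • q = p := by rw [hqdef, ← mul_smul, hx2, one_smul]
  have hqX : q ∉ X := fun h => hqp (h.symm.trans hxq)
  have hsub : ({p, q} : Set Ω) ⊆ Δ \ X := by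
    rintro w (rfl | rfl) <;> exact ⟨by assumption, by assumption⟩
  have h3 : (Δ \ X).ncard + (Δ ∩ X).ncard = k :=
    hΔ ▸ (add_comm _ _).trans (Set.ncard_inter_add_ncard_sdiff_eq_ncard Δ X (Set.toFinite _))
  have hM : Δ \ X = {p, q} := by
    refine Set.Subset.antisymm (fun r hr => ?_) hsub
    by_contra hr'
    simp only [Set.mem_insert_iff, Set.mem_singleton_iff, not_or] at hr'
    have hxr : x • r ∈ Δ := (hSΔ hxS r).2 hr.1
    have hsub4 : ({p, q, r, x • r} : Set Ω) ⊆ Δ := by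
      rintro w (rfl | rfl | rfl | rfl)
      exacts [hp, hq, hr.1, hxr]
    have h4 : ({p, q, r, x • r} : Set Ω).ncard = 4 := by
      have e1 : x • r ≠ r := hr.2
      have e2 : x • r ≠ p := fun e => hr'.2 (MulAction.injective x (e.trans hxq.symm))
      have e3 : x • r ≠ q := fun e => hr'.1 (MulAction.injective x e)
      rw [Set.ncard_insert_of_notMem (by simp [Ne.symm hqp, Ne.symm hr'.1, Ne.symm e2]) (Set.toFinite _),
        Set.ncard_insert_of_notMem (by simp [Ne.symm hr'.2, Ne.symm e3]) (Set.toFinite _),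
        Set.ncard_pair (Ne.symm e1)]
    have := Set.ncard_le_ncard hsub4 (Set.toFinite _)
    omega
  have hM2 : (Δ \ X).ncard = 2 := by rw [hM]; exact Set.ncard_pair (Ne.symm hqp)
  have hE2 : (X \ Δ).ncard = 2 := by
    have := Set.ncard_inter_add_ncard_sdiff_eq_ncard X Δ (Set.toFinite _)
    rw [Set.inter_comm, hX] at this
    omega
  obtain ⟨e, e', hee, hE⟩ := Set.ncard_eq_two.1 hE2
  set r : ↥(S : Subgroup G) := ⟨x, hxS⟩
  have hrz : z ≠ r := fun h => hxΔ (by rw [hΔdef, h])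
  refine FixityTwoSylow.dihedralOrSemi_of_centralizer S.isPGroup' (r := r) (z := z)
    (by rw [← Subgroup.orderOf_coe]; exact hxo) hzo hrz (hzc r) ?_
  set C := Subgroup.centralizer ({r} : Set ↥(S : Subgroup G))
  have hpres : ∀ d ∈ C, ∀ w : Ω, ((d : G) • w ∈ X ↔ w ∈ X) := fun d hd => fix_setStab_of_comm
    (congrArg Subtype.val (Subgroup.mem_centralizer_singleton_iff.1 hd))
  have hpE : ∀ d ∈ C, ∀ w : Ω, w ∈ X \ Δ → (d : G) • w = e ∨ (d : G) • w = e' := by
    intro d hd w hw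
    have : (d : G) • w ∈ X \ Δ := ⟨(hpres d hd w).2 hw.1, fun h => hw.2 ((hSΔ d.2 w).1 h)⟩
    rw [hE] at this
    simpa using this
  have heE : e ∈ X \ Δ := by rw [hE]; simp
  have heE' : e' ∈ X \ Δ := by rw [hE]; simp
  refine FixityTwoSylow.card_le_four (α := Ω) C r e e' (fun d hd => hpE d hd e heE) fun d hd hde => ?_
  have hde : (d : G) • e = e := hde
  have hde' : (d : G) • e' = e' := by
    rcases hpE d hd e' heE' with h | h
    · exact absurd (MulAction.injective (d : G) (h.trans hde.symm)) (Ne.symm hee)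
    · exact h
  have hI : ∀ w ∈ Δ ∩ X, (d : G) • w = w := by
    intro w hw
    have h1 : (d : G) • w ∈ Δ ∩ X := ⟨(hSΔ d.2 w).2 hw.1, (hpres d hd w).2 hw.2⟩
    have hle1 : (Δ ∩ X).ncard ≤ 1 := by omega
    exact (Set.ncard_le_one (Set.toFinite _)).1 hle1 _ h1 _ hw
  -- an element fixing `p` and `q` as well is trivial
  have hend : ∀ s ∈ (S : Subgroup G), s • p = p → s • q = q → s • e = e → s • e' = e' →
      (∀ w ∈ Δ ∩ X, s • w = w) → s = 1 := by
    intro s hs h1 h2 h3' h4 h5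
    refine hle s hs (Δ ∪ (X \ Δ)) (fun w hw => ?_) ?_
    · rcases hw with hw | hw
      · by_cases hwX : w ∈ X
        · exact h5 w ⟨hw, hwX⟩
        · have : w ∈ ({p, q} : Set Ω) := hM ▸ ⟨hw, hwX⟩
          rcases this with rfl | rfl
          exacts [h1, h2]
      · rw [hE] at hw
        rcases hw with rfl | rfl
        exacts [h3', h4]
    · rw [Set.ncard_union_eq (Set.disjoint_sdiff_right) (Set.toFinite _) (Set.toFinite _), hΔ, hE2]
      omega
  have hdp : (d : G) • p ∈ ({p, q} : Set Ω) :=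
    hM ▸ ⟨(hSΔ d.2 p).2 hp, fun h => hpX ((hpres d hd p).1 h)⟩
  have hdq : (d : G) • q ∈ ({p, q} : Set Ω) :=
    hM ▸ ⟨(hSΔ d.2 q).2 hq, fun h => hqX ((hpres d hd q).1 h)⟩
  rcases hdp with h | h
  · left
    refine Subtype.ext (hend d d.2 h ?_ hde hde' hI)
    rcases hdq with h' | h'
    · exact absurd (MulAction.injective (d : G) (h'.trans h.symm)) hqp
    · exact h'
  · right
    have h : (d : G) • p = q := h
    have hdq' : (d : G) • q = p := by
      rcases hdq with h' | h'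
      · exact h'
      · exact absurd (MulAction.injective (d : G) ((show (d : G) • q = q from h').trans h.symm)) hqp
    have hxe : ∀ w ∈ X, x • w = w := fun w hw => hw
    have h1 := hend (x * d) ((S : Subgroup G).mul_mem hxS d.2) (by rw [mul_smul, h, hxq])
      (by rw [mul_smul, hdq']) (by rw [mul_smul, hde, hxe e heE.1])
      (by rw [mul_smul, hde', hxe e' heE'.1]) fun w hw => by rw [mul_smul, hI w hw, hxe w hw.2]
    refine Subtype.ext ?_
    show (d : G) = x
    calc (d : G) = x * x * d := by rw [hx2, one_mul]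
      _ = x := by rw [mul_assoc, h1, mul_one]

end Cfsg.Agent.Lib.FixityFour61
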