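import Cfsg.Agent.Lib.FixityFour61.FourMain
import Cfsg.Agent.Lib.FixityFour61.LowFix
import Cfsg.Prelude.Def_CaseTheorems
import Cfsg.Prelude.Def_Transfer
import Mathlib.GroupTheory.SpecificGroups.Dihedral

/-!
# Fixity four: the five cases, from the odd case

helper61, for S3365.
-/

set_option autoImplicit false

namespace Cfsg.Agent.Lib.FixityFour61

open MulAction

/-- The five cases, given the case of a point stabiliser of odd order divisible by three. -/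
theorem fixityFour_of_odd {G Ω : Type*} [Group G] [Finite G] [IsSimpleGroup G] (hna : ¬ IsMulCommutative G)
    [MulAction G Ω] [FaithfulSMul G Ω] [Finite Ω] (htrans : MulAction.IsPretransitive G Ω)
    (hfix : ∀ g : G, g ≠ 1 → Nat.card (MulAction.fixedBy Ω g) ≤ 4)
    (hfix4 : ∃ g : G, g ≠ 1 ∧ Nat.card (MulAction.fixedBy Ω g) = 4)
    (P : Sylow 3 G) (S : Sylow 2 G) (f : ℕ)
    (hf : ∀ g : G, orderOf g = 2 → Nat.card (MulAction.fixedBy Ω g) ≤ f)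
    (hf' : ∃ g : G, orderOf g = 2 ∧ Nat.card (MulAction.fixedBy Ω g) = f) (a : Ω)
    (hoddCase : (∀ g : G, orderOf g = 2 → Nat.card (MulAction.fixedBy Ω g) = 0) →
      3 ∣ Nat.card (MulAction.stabilizer G a) →
      ((∃ H : Subgroup G, H ≠ ⊤ ∧ 3 ∣ Nat.card H ∧ ∀ g : G, g ∉ H → ¬ 3 ∣ Nat.card ↥(H ⊓ H.map (MulAut.conj g).toMonoidHom)) ∨
       (Nat.card P = 3 ∧ ∀ T : Sylow 2 (Subgroup.normalizer ((P : Subgroup G) : Set G)), Nat.card T ≤ 4) ∨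
       (Nat.card P = 9 ∧ ∀ x ∈ (P : Subgroup G), x ^ 3 = 1) ∨
       (Nat.card P = 27 ∧ Cfsg.IsExtraspecial 3 (P : Subgroup G) ∧ ∀ x ∈ (P : Subgroup G), x ^ 3 = 1) ∨
       (∃ T : Sylow 3 (Equiv.Perm (Fin 9)), Nonempty ((P : Subgroup G) ≃* (T : Subgroup (Equiv.Perm (Fin 9))))))) :
    (1 ≤ f ∧ ∃ H : Subgroup G, Cfsg.IsStronglyEmbedded H) ∨
    (1 ≤ f ∧ f ≤ 3 ∧ ((∃ n : ℕ, Nonempty ((S : Subgroup G) ≃* DihedralGroup n)) ∨ Cfsg.IsQuasiDihedral (S : Subgroup G))) ∨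
    (f = 4 ∧ Cfsg.SectionalPRankLE 2 4 G) ∨
    (Odd (Nat.card (MulAction.stabilizer G a)) ∧ 3 ∣ Nat.card (MulAction.stabilizer G a) ∧
      ((∃ H : Subgroup G, H ≠ ⊤ ∧ 3 ∣ Nat.card H ∧ ∀ g : G, g ∉ H → ¬ 3 ∣ Nat.card ↥(H ⊓ H.map (MulAut.conj g).toMonoidHom)) ∨
       (Nat.card P = 3 ∧ ∀ T : Sylow 2 (Subgroup.normalizer ((P : Subgroup G) : Set G)), Nat.card T ≤ 4) ∨
       (Nat.card P = 9 ∧ ∀ x ∈ (P : Subgroup G), x ^ 3 = 1) ∨
       (Nat.card P = 27 ∧ Cfsg.IsExtraspecial 3 (P : Subgroup G) ∧ ∀ x ∈ (P : Subgroup G), x ^ 3 = 1) ∨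
       (∃ T : Sylow 3 (Equiv.Perm (Fin 9)), Nonempty ((P : Subgroup G) ≃* (T : Subgroup (Equiv.Perm (Fin 9))))))) ∨
    (Nat.card (MulAction.stabilizer G a)).Coprime 6 := by
  haveI := htrans
  obtain ⟨g₀, hg₀, hg₀f⟩ := hf'
  have hf4 : f ≤ 4 := hg₀f ▸ hfix g₀ (ne_one_of_two hg₀)
  rcases Nat.eq_zero_or_pos f with hf0 | hf1
  · have hinv : ∀ g : G, orderOf g = 2 → Nat.card (fixedBy Ω g) = 0 := fun g hg =>
      Nat.le_zero.1 (hf0 ▸ hf g hg)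
    have hodd : Odd (Nat.card (stabilizer G a)) := by
      refine Nat.not_even_iff_odd.1 fun hev => ?_
      obtain ⟨x, hx, hxo⟩ := exists_invol_of_even hev
      haveI : IsEmpty (fixedBy Ω x) :=
        (Nat.card_eq_zero.1 (hinv x hxo)).resolve_right (not_infinite_iff_finite.2 inferInstance)
      exact IsEmpty.false (⟨a, hx⟩ : fixedBy Ω x)
    by_cases h3 : 3 ∣ Nat.card (stabilizer G a)
    · exact Or.inr (Or.inr (Or.inr (Or.inl ⟨hodd, h3, hoddCase hinv h3⟩)))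
    · refine Or.inr (Or.inr (Or.inr (Or.inr ?_)))
      rw [show (6 : ℕ) = 2 * 3 from rfl]
      exact Nat.Coprime.mul_right (Nat.coprime_two_right.2 hodd)
        ((Nat.prime_three.coprime_iff_not_dvd.2 h3).symm)
  rcases eq_or_lt_of_le hf4 with hf4' | hf4'
  · rcases fourFix hfix hg₀ (hg₀f.trans hf4') with h | h
    · exact Or.inl ⟨hf1, h⟩
    · exact Or.inr (Or.inr (Or.inl ⟨hf4', h⟩))
  have hinv : ∀ g : G, orderOf g = 2 → Nat.card (fixedBy Ω g) = f := fun g hg => by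
    have h1 := fix_mod_four (Ω := Ω) hna hg
    have h2 := fix_mod_four (Ω := Ω) hna hg₀
    have h3 := hf g hg
    omega
  rcases lowFix hf1 (Nat.lt_succ_iff.1 hf4') hinv ⟨g₀, hg₀⟩ S with h | h
  · exact Or.inl ⟨hf1, h⟩
  · exact Or.inr (Or.inl ⟨hf1, Nat.lt_succ_iff.1 hf4', h⟩)

end Cfsg.Agent.Lib.FixityFour61
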