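import Cfsg.Prelude.Def_Involutions
import Cfsg.Prelude.Def_Local
import Mathlib.GroupTheory.Perm.Cycle.Type
import Mathlib.GroupTheory.Sylow
import Mathlib.GroupTheory.Subgroup.Simple
import Mathlib.GroupTheory.GroupAction.FixedPoints

/-!
# Fixity four: fixed sets, parity, strongly embedded set stabilisers

helper61, for S3365.
-/

set_option autoImplicit false

namespace Cfsg.Agent.Lib.FixityFour61

open MulAction

variable (G : Type*) [Group G] {Ω : Type*} [MulAction G Ω]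

/-- The setwise stabiliser. -/
def setStab (Δ : Set Ω) : Subgroup G where
  carrier := {g | ∀ x, g • x ∈ Δ ↔ x ∈ Δ}
  mul_mem' := fun {a b} ha hb x => by rw [mul_smul]; exact (ha _).trans (hb x)
  one_mem' := fun x => by rw [one_smul]
  inv_mem' := fun {a} ha x => by rw [← ha (a⁻¹ • x), smul_inv_smul]

/-- The pointwise stabiliser. -/
def ptStab (Δ : Set Ω) : Subgroup G where
  carrier := {g | ∀ x ∈ Δ, g • x = x}
  mul_mem' := fun {a b} ha hb x hx => by rw [mul_smul, hb x hx, ha x hx]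
  one_mem' := fun x _ => one_smul G x
  inv_mem' := fun {a} ha x hx => inv_smul_eq_iff.2 (ha x hx).symm

variable {G}

theorem mem_setStab {g : G} {Δ : Set Ω} : g ∈ setStab G Δ ↔ ∀ x, g • x ∈ Δ ↔ x ∈ Δ := Iff.rfl

theorem mem_ptStab {g : G} {Δ : Set Ω} : g ∈ ptStab G Δ ↔ ∀ x ∈ Δ, g • x = x := Iff.rfl

theorem setStab_of_subset [Finite Ω] {g : G} {Δ : Set Ω} (h : ∀ x ∈ Δ, g • x ∈ Δ) :
    g ∈ setStab G Δ := by
  intro x
  refine ⟨fun hx => ?_, h x⟩
  have heq : (fun y => g • y) '' Δ = Δ := by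
    refine Set.eq_of_subset_of_ncard_le ?_ ?_ (Set.toFinite _)
    · rintro _ ⟨y, hy, rfl⟩; exact h y hy
    · rw [Set.ncard_image_of_injective _ (MulAction.injective g)]
  rw [← heq] at hx
  obtain ⟨y, hy, hyx⟩ := hx
  exact MulAction.injective g hyx ▸ hy

theorem fix_conj {g u : G} {y : Ω} :
    g • y ∈ fixedBy Ω (g * u * g⁻¹) ↔ y ∈ fixedBy Ω u := by
  rw [mem_fixedBy, mem_fixedBy, mul_smul, mul_smul, inv_smul_smul]
  exact ⟨fun h => MulAction.injective g h, fun h => by rw [h]⟩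

theorem fix_conj' {g u : G} {y : Ω} :
    y ∈ fixedBy Ω (g * u * g⁻¹) ↔ g⁻¹ • y ∈ fixedBy Ω u := by
  rw [← fix_conj (g := g) (u := u) (y := g⁻¹ • y), smul_inv_smul]

theorem fix_setStab_of_comm {c u : G} (h : c * u = u * c) : c ∈ setStab G (fixedBy Ω u) := by
  intro x
  have e : c * u * c⁻¹ = u := by rw [h, mul_inv_cancel_right]
  conv_lhs => rw [← e]
  exact fix_conj

theorem ncard_smul_eq {g u : G} :
    Nat.card (fixedBy Ω (g * u * g⁻¹)) = Nat.card (fixedBy Ω u) :=
  (Nat.card_congr ⟨fun y => ⟨g • y.1, fix_conj.2 y.2⟩, fun y => ⟨g⁻¹ • y.1, fix_conj'.1 y.2⟩,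
    fun y => Subtype.ext (inv_smul_smul g y.1), fun y => Subtype.ext (smul_inv_smul g y.1)⟩).symm

/-- A set of fixed points with as many elements as allowed is the whole fixed set. -/
theorem fix_eq [Finite Ω] {g : G} {Δ : Set Ω} (h : ∀ x ∈ Δ, g • x = x)
    (hc : Nat.card (fixedBy Ω g) ≤ Δ.ncard) : fixedBy Ω g = Δ :=
  (Set.eq_of_subset_of_ncard_le (fun x hx => h x hx) (by rwa [← Nat.card_coe_set_eq])
    (Set.toFinite _)).symm

theorem orderOf_two {g : G} (h1 : g ≠ 1) (h2 : g * g = 1) : orderOf g = 2 :=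
  orderOf_eq_prime (by rwa [pow_two]) h1

theorem sq_of_two {g : G} (h : orderOf g = 2) : g * g = 1 := by
  rw [← pow_two, ← h]; exact pow_orderOf_eq_one g

theorem ne_one_of_two {g : G} (h : orderOf g = 2) : g ≠ 1 := by
  rintro rfl
  rw [orderOf_one] at h
  omega

/-- An element of two-power order, not trivial, has a power of order two. -/
theorem exists_pow_two [Finite G] {X : Subgroup G} (hX : IsPGroup 2 X) {c : G} (hc : c ∈ X)
    (h1 : c ≠ 1) : ∃ j : ℕ, orderOf (c ^ j) = 2 := by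
  haveI : Fact (Nat.Prime 2) := ⟨Nat.prime_two⟩
  obtain ⟨k, hk⟩ := IsPGroup.iff_orderOf.1 hX ⟨c, hc⟩
  rw [Subgroup.orderOf_mk] at hk
  rcases k with _ | k
  · exact absurd (orderOf_eq_one_iff.1 (hk.trans (pow_zero 2))) h1
  · refine ⟨2 ^ k, ?_⟩
    rw [orderOf_pow, hk, Nat.gcd_eq_right (pow_dvd_pow 2 (Nat.le_succ k)),
      Nat.pow_div (Nat.le_succ k) (by norm_num)]
    simp

theorem exists_invol_of_even [Finite G] {H : Subgroup G} (h : Even (Nat.card H)) :
    ∃ x ∈ H, orderOf x = 2 := by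
  haveI : Fact (Nat.Prime 2) := ⟨Nat.prime_two⟩
  obtain ⟨⟨x, hx⟩, hox⟩ := exists_prime_orderOf_dvd_card' (G := ↥H) 2 h.two_dvd
  exact ⟨x, hx, by rwa [Subgroup.orderOf_mk] at hox⟩

/-- Into a Sylow subgroup of an overgroup. -/
theorem exists_conj_mem_sylow [Finite G] {p : ℕ} [Fact p.Prime] (P : Sylow p G) {H : Subgroup G}
    (hP : (P : Subgroup G) ≤ H) {y : G} (hy : y ∈ H) {n : ℕ} (ho : orderOf y = p ^ n) :
    ∃ h ∈ H, h * y * h⁻¹ ∈ (P : Subgroup G) := by
  have hp : IsPGroup p (Subgroup.zpowers (⟨y, hy⟩ : ↥H)) :=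
    IsPGroup.of_card (by rw [Nat.card_zpowers, Subgroup.orderOf_mk]; exact ho)
  obtain ⟨Q, hQ⟩ := hp.exists_le_sylow
  obtain ⟨g, hg⟩ := MulAction.exists_smul_eq ↥H Q (P.subtype hP)
  refine ⟨g, g.2, ?_⟩
  have hmem : g * ⟨y, hy⟩ * g⁻¹ ∈ ((g • Q : Sylow p ↥H) : Subgroup ↥H) := by
    rw [Sylow.coe_subgroup_smul, Subgroup.mem_pointwise_smul_iff_inv_smul_mem]
    have := hQ (Subgroup.mem_zpowers _)
    simpa [mul_assoc] using this
  rw [hg, Sylow.coe_subtype, Subgroup.mem_subgroupOf] at hmem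
  exact hmem

section Parity

variable [IsSimpleGroup G] [FaithfulSMul G Ω]

/-- Every element of a nonabelian simple group acts as an even permutation. -/
theorem fix_mod_four [Finite Ω] (hna : ¬ IsMulCommutative G) {g : G} (hg : orderOf g = 2) :
    Nat.card (fixedBy Ω g) % 4 = Nat.card Ω % 4 := by
  classical
  haveI := Fintype.ofFinite Ω
  set ρ : G →* Equiv.Perm Ω := MulAction.toPermHom G Ω with hρ
  set σ := ρ g with hσ
  have hsign : Equiv.Perm.sign σ = 1 := by
    rcases Subgroup.Normal.eq_bot_or_eq_top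
      (inferInstance : ((Equiv.Perm.sign.comp ρ).ker).Normal) with h | h
    · exact absurd ⟨⟨fun a b => (MonoidHom.ker_eq_bot_iff _).1 h
        (by rw [map_mul, map_mul, mul_comm])⟩⟩ hna
    · exact MonoidHom.mem_ker.1 (h.ge (Subgroup.mem_top g))
  have hinj : Function.Injective ρ := MulAction.toPerm_injective
  have ho : orderOf σ = 2 := (orderOf_injective ρ hinj g).trans hg
  obtain ⟨n, hn⟩ := Equiv.Perm.cycleType_prime_order (σ := σ) (by rw [ho]; exact Nat.prime_two)
  rw [ho] at hn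
  have hs := Equiv.Perm.sign_of_cycleType σ
  rw [hsign, hn, Multiset.sum_replicate, Multiset.card_replicate, smul_eq_mul] at hs
  have heven : Even (n + 1) := by
    have h3 : Even ((n + 1) * 2 + (n + 1)) := by
      by_contra ho'
      rw [Nat.not_even_iff_odd] at ho'
      rw [ho'.neg_one_pow] at hs
      exact absurd hs (by decide)
    exact (Nat.even_add.1 h3).1 (by simp)
  have hfp := Equiv.Perm.card_fixedPoints σ
  rw [hn, Multiset.sum_replicate, smul_eq_mul] at hfp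
  have hle := Equiv.Perm.sum_cycleType_le σ
  rw [hn, Multiset.sum_replicate, smul_eq_mul] at hle
  rw [Nat.card_eq_fintype_card (α := Ω), show Nat.card (fixedBy Ω g) = Nat.card (Function.fixedPoints σ) from rfl,
    Nat.card_eq_fintype_card, hfp]
  obtain ⟨t, ht⟩ := heven
  omega

end Parity

/-- The stabiliser of the common fixed set of its involutions is strongly embedded. -/
theorem stronglyEmbedded_setStab [Finite G] [Finite Ω] [FaithfulSMul G Ω] [IsPretransitive G Ω]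
    {Δ : Set Ω} (hne : Δ.Nonempty) (hexi : ∃ u ∈ setStab G Δ, orderOf u = 2)
    (h : ∀ u ∈ setStab G Δ, orderOf u = 2 → fixedBy Ω u = Δ) :
    Cfsg.IsStronglyEmbedded (setStab G Δ) := by
  obtain ⟨u, hu, huo⟩ := hexi
  refine ⟨fun htop => ?_, ?_, fun g hg => ?_⟩
  · obtain ⟨a, ha⟩ := hne
    refine ne_one_of_two huo (eq_of_smul_eq_smul (α := Ω) fun x => ?_)
    obtain ⟨k, hk⟩ := exists_smul_eq G a x
    have hx : x ∈ Δ := hk ▸ ((htop.ge (Subgroup.mem_top k) : k ∈ setStab G Δ) a).2 ha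
    rw [← h u hu huo, mem_fixedBy] at hx
    rw [hx, one_smul]
  · exact even_iff_two_dvd.2 (huo ▸ (Subgroup.orderOf_dvd_natCard _ hu))
  · refine Nat.not_even_iff_odd.1 fun hev => hg ?_
    obtain ⟨x, ⟨hx, v, hv, hvx⟩, hxo⟩ := exists_invol_of_even hev
    have hvx' : g * v * g⁻¹ = x := hvx
    have hvo : orderOf v = 2 := by
      rw [← hxo, ← hvx]
      exact (orderOf_injective _ (MulAut.conj g).injective v).symm
    intro y
    have h1 := h x hx hxo
    rw [← hvx'] at h1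
    conv_lhs => rw [← h1]
    rw [fix_conj, h v hv hvo]

end Cfsg.Agent.Lib.FixityFour61
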