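import Cfsg.Agent.Lib.FixityFour61.FourConfig
import Mathlib.GroupTheory.GroupAction.ConjAct

/-!
# Fixity four: an abelian intersection of two stabilisers

helper61, for S3365.  `D = A × B` has order `16` and is the centraliser of every non-trivial element
of `B`.
-/

set_option autoImplicit false

namespace Cfsg.Agent.Lib.FixityFour61

open Subgroup
open scoped commutatorElement

variable {S : Type*} [Group S] [Finite S]

theorem card_mul_card_le {K M N : Subgroup S} (hM : M ≤ K) (hN : N ≤ K)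
    (h : ∀ x ∈ M, x ∈ N → x = 1) : Nat.card M * Nat.card N ≤ Nat.card K := by
  rw [← Nat.card_prod]
  refine Nat.card_le_card_of_injective
    (fun p : M × N => (⟨(p.1 : S) * p.2, K.mul_mem (hM p.1.2) (hN p.2.2)⟩ : K)) fun p q hpq => ?_
  have he : (p.1 : S) * p.2 = q.1 * q.2 := congrArg Subtype.val hpq
  have h1 : (q.1 : S)⁻¹ * p.1 = q.2 * (p.2 : S)⁻¹ := by
    rw [eq_mul_inv_iff_mul_eq, mul_assoc, he, inv_mul_cancel_left]
  have h2 := h _ (M.mul_mem (M.inv_mem q.1.2) p.1.2) (h1 ▸ N.mul_mem q.2.2 (N.inv_mem p.2.2))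
  have e1 : (q.1 : S) = p.1 := inv_mul_eq_one.1 h2
  have e2 : (q.2 : S) = p.2 := (mul_left_cancel (e1 ▸ he)).symm
  exact Prod.ext (Subtype.ext e1.symm) (Subtype.ext e2.symm)

/-- `D = A × B` of order `16`, abelian, the centraliser of each non-trivial element of `B`. -/
structure AbPair (D B : Subgroup S) : Prop where
  pg : IsPGroup 2 S
  comm : ∀ a ∈ D, ∀ b ∈ D, a * b = b * a
  cardD : Nat.card D = 16
  le : B ≤ D
  cardB : Nat.card B = 4
  cen_eq : ∀ b ∈ B, b ≠ 1 → cen b = D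

variable {D B : Subgroup S}

theorem AbPair.card_disjoint (h : AbPair D B) {M : Subgroup S} (hM : M ≤ D)
    (hd : ∀ x ∈ M, x ∈ B → x = 1) : Nat.card M ≤ 4 := by
  have := card_mul_card_le hM h.le hd
  rw [h.cardD, h.cardB] at this
  omega

theorem AbPair.exists_mem_of_five (h : AbPair D B) {M : Subgroup S} (hM : M ≤ D)
    (hc : 4 < Nat.card M) : ∃ b ∈ B, b ≠ 1 ∧ b ∈ M := by
  by_contra hno
  push Not at hno
  exact absurd (h.card_disjoint hM fun x hx hxB => by_contra fun h1 => hno x hxB h1 hx) (by omega)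

theorem AbPair.big_meets (h : AbPair D B) (hS : Nat.card S ≤ 128) {H : Subgroup S}
    (hH : 64 ≤ Nat.card H) : ∃ b ∈ H, Nat.card (cen b) ≤ 16 := by
  by_contra hno
  push Not at hno
  have := card_mul_card_le (K := (⊤ : Subgroup S)) (M := H) (N := B) le_top le_top fun x hx hxB =>
    by_contra fun h1 => by
      have := hno x hx
      rw [h.cen_eq x hxB h1, h.cardD] at this
      omega
  rw [h.cardB, Subgroup.card_top] at this
  omega

/-- A normal elementary subgroup of order at least eight meeting `B`. -/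
theorem AbPair.rank_meet (h : AbPair D B) {E : Subgroup S} (hEn : E.Normal) (hE : IsEA E)
    (hE8 : 8 ≤ Nat.card E) {b : S} (hb : b ∈ B) (hb1 : b ≠ 1) (hbE : b ∈ E) :
    Cfsg.SectionalPRankLE 2 4 S := by
  have hED : E ≤ D := fun e he => h.cen_eq b hb hb1 ▸ mem_cen.2 (hE.comm he hbE)
  have hCE : centralizer (E : Set S) = D := le_antisymm
    (fun c hc => h.cen_eq b hb hb1 ▸ mem_cen.2 ((mem_centralizer_iff.1 hc) b hbE).symm)
    (fun d hd => mem_centralizer_iff.2 fun e he => h.comm e (hED he) d hd)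
  haveI := hEn
  haveI hDn : D.Normal := hCE ▸ inferInstance
  -- the conjugates of `b`
  let f : S ⧸ cen b → S := Quotient.lift (fun g : S => g * b * g⁻¹) (fun x y hxy => by
    have hxy' := mem_cen.1 (QuotientGroup.leftRel_apply.1 hxy)
    show x * b * x⁻¹ = y * b * y⁻¹
    calc x * b * x⁻¹ = x * (b * (x⁻¹ * y)) * y⁻¹ := by group
      _ = y * b * y⁻¹ := by rw [← hxy']; group)
  have hf : Function.Injective f := by
    rintro ⟨x⟩ ⟨y⟩ hxy
    have hxy' : x * b * x⁻¹ = y * b * y⁻¹ := hxy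
    refine Quotient.sound (QuotientGroup.leftRel_apply.2 (mem_cen.2 ?_))
    calc x⁻¹ * y * b = x⁻¹ * (y * b * y⁻¹) * y := by group
      _ = b * (x⁻¹ * y) := by rw [← hxy']; group
  have hfE : ∀ q, f q ∈ (E : Set S) \ {1} := by
    rintro ⟨x⟩
    refine ⟨hEn.conj_mem b hbE x, fun he => hb1 ?_⟩
    exact conj_eq_one_iff.1 (show x * b * x⁻¹ = 1 from he)
  have hidx : (cen b).index ≤ ((E : Set S) \ {1}).ncard := by
    rw [Subgroup.index, ← Nat.card_coe_set_eq]
    exact Nat.card_le_card_of_injective (fun q => (⟨f q, hfE q⟩ : ↥((E : Set S) \ {1})))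
      (fun p q hpq => hf (congrArg Subtype.val hpq))
  have hE16 : Nat.card E ≤ 16 := h.cardD ▸ Subgroup.card_le_of_le hED
  rw [Set.ncard_diff_singleton_of_mem E.one_mem, ← Nat.card_coe_set_eq] at hidx
  change (cen b).index ≤ Nat.card E - 1 at hidx
  have hidx8 : (cen b).index ≤ 8 := by
    haveI : Fact (Nat.Prime 2) := ⟨Nat.prime_two⟩
    obtain ⟨k, hk⟩ := h.pg.index (cen b)
    rw [hk] at hidx ⊢
    have : k ≤ 3 := by
      by_contra hk4
      have : 2 ^ 4 ≤ 2 ^ k := Nat.pow_le_pow_right (by norm_num) (by omega)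
      omega
    calc 2 ^ k ≤ 2 ^ 3 := Nat.pow_le_pow_right (by norm_num) this
      _ = 8 := by norm_num
  have hcard : Nat.card S = 16 * (cen b).index := by
    rw [← h.cardD, ← h.cen_eq b hb hb1, Subgroup.card_mul_index]
  have hS : Nat.card S ≤ 128 := by omega
  refine rank_of_small h.pg hS (fun X hX hX32 => ?_) (fun H hH => h.big_meets hS hH)
  have hXB : ∀ x ∈ X, x ∈ B → x = 1 := fun x hx hxB => by_contra fun h1 => by
    have : X ≤ D := fun z hz => h.cen_eq x hxB h1 ▸ mem_cen.2 (hX.comm hz hx)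
    exact absurd ((Subgroup.card_le_of_le this).trans h.cardD.le) (by omega)
  set M := X ⊓ D with hM
  have hM4 : Nat.card M ≤ 4 := h.card_disjoint inf_le_right fun x hx => hXB x hx.1
  have hsplit : Nat.card X = Nat.card M * Nat.card (X.map (QuotientGroup.mk' D)) := by
    rw [show X.map (QuotientGroup.mk' D) = ((QuotientGroup.mk' D).comp X.subtype).range by
      rw [MonoidHom.range_comp, Subgroup.range_subtype], ← Subgroup.index_ker,
      ← Subgroup.card_mul_index ((QuotientGroup.mk' D).comp X.subtype).ker]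
    congr 1
    refine Nat.card_congr ⟨fun e => ⟨e.1.1, e.1.2, (QuotientGroup.eq_one_iff _).1 e.2⟩,
      fun e => ⟨⟨e.1, e.2.1⟩, (QuotientGroup.eq_one_iff _).2 e.2.2⟩, fun _ => rfl, fun _ => rfl⟩
  have hDidx : D.index = (cen b).index := by rw [h.cen_eq b hb hb1]
  have himg : Nat.card (X.map (QuotientGroup.mk' D)) ≤ D.index := Subgroup.card_le_card_group _
  have h32 : 32 ≤ Nat.card M * Nat.card (X.map (QuotientGroup.mk' D)) := hsplit ▸ hX32
  have hfull : Nat.card (X.map (QuotientGroup.mk' D)) = 8 ∧ Nat.card M = 4 := by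
    have h1 : Nat.card (X.map (QuotientGroup.mk' D)) ≤ 8 := himg.trans (hDidx.le.trans hidx8)
    have h2 := Nat.mul_le_mul hM4 h1
    refine ⟨le_antisymm h1 ?_, le_antisymm hM4 ?_⟩
    · by_contra hlt
      have := Nat.mul_le_mul hM4 (le_of_lt (not_le.1 hlt))
      have h7 : Nat.card (X.map (QuotientGroup.mk' D)) ≤ 7 := by omega
      have := Nat.mul_le_mul hM4 h7
      omega
    · by_contra hlt
      have h3 : Nat.card M ≤ 3 := by omega
      have := Nat.mul_le_mul h3 h1
      omega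
  have htop : X.map (QuotientGroup.mk' D) = ⊤ :=
    Subgroup.eq_top_of_card_eq _ (le_antisymm (Subgroup.card_le_card_group _) (by
      show D.index ≤ _
      omega))
  -- conjugates of `b` lie in the coset of `M`
  have hcos : ∀ q, f q * b ∈ (M : Set S) := by
    rintro ⟨g⟩
    show g * b * g⁻¹ * b ∈ M
    have hb2 : b * b = 1 := hE b hbE
    obtain ⟨x, hx, hxg⟩ : (QuotientGroup.mk' D g) ∈ X.map (QuotientGroup.mk' D) := htop ▸ mem_top _
    obtain ⟨d, hd, rfl⟩ : ∃ d ∈ D, g = x * d :=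
      ⟨x⁻¹ * g, QuotientGroup.eq.1 hxg, by group⟩
    have hxd : x * d * b * (x * d)⁻¹ = x * b * x⁻¹ := by
      rw [show x * d * b * (x * d)⁻¹ = x * (d * b) * d⁻¹ * x⁻¹ by group, h.comm d hd b (h.le hb)]
      group
    rw [hxd]
    have hcD : x * b * x⁻¹ ∈ D := hDn.conj_mem b (h.le hb) x
    by_cases hxD : x ∈ D
    · rw [h.comm x hxD b (h.le hb), mul_inv_cancel_right, hb2]
      exact M.one_mem
    have hx2 : x * x = 1 := hX x hx
    set N := D ⊓ cen x with hN
    have hMN : M ≤ N := fun m hm => ⟨hm.2, mem_cen.2 (hX.comm hm.1 hx)⟩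
    have hN4 : Nat.card N ≤ 4 := by
      by_contra h5
      obtain ⟨b', hb', hb'1, hb'N⟩ := h.exists_mem_of_five (M := N) inf_le_left (by omega)
      exact hxD (h.cen_eq b' hb' hb'1 ▸ mem_cen.2 (mem_cen.1 hb'N.2).symm)
    have hNM : N = M := (Subgroup.eq_of_le_of_card_ge hMN (hN4.trans hfull.2.ge)).symm
    rw [← hNM]
    refine ⟨D.mul_mem hcD (h.le hb), mem_cen.2 ?_⟩
    rw [inv_eq_of_mul_eq_one_right hx2] at hcD ⊢
    have e1 : x * b * x * b * x = b * x * b := by
      rw [← h.comm b (h.le hb) _ hcD]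
      simp only [mul_assoc]
      rw [hx2, mul_one]
    have e2 : x * (x * b * x * b) = b * x * b := by
      simp only [← mul_assoc]
      rw [hx2, one_mul]
    exact e1.trans e2.symm
  have hle4 : (cen b).index ≤ 4 := by
    rw [Subgroup.index]
    refine le_trans ?_ hM4
    exact Nat.card_le_card_of_injective (fun q => (⟨f q * b, hcos q⟩ : M))
      fun p q hpq => hf (mul_right_cancel (congrArg Subtype.val hpq))
  have := hDidx ▸ himg
  omega

theorem conj_inv_of_invol {G : Type*} [Group G] {b : G} (hb : b * b = 1) (x : G) :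
    b * ⁅b, x⁆ * b = ⁅b, x⁆⁻¹ := by
  simp only [commutatorElement_def, mul_inv_rev, inv_inv, mul_assoc, inv_eq_of_mul_eq_one_right hb]
  rw [← mul_assoc b b, hb, one_mul]

theorem comm_mem_iff {G : Type*} [Group G] (E : Subgroup G) [E.Normal] (a x : G) :
    ⁅a, x⁆ ∈ E ↔ QuotientGroup.mk' E a * QuotientGroup.mk' E x =
      QuotientGroup.mk' E x * QuotientGroup.mk' E a := by
  rw [← commutatorElement_eq_one_iff_mul_comm, ← map_commutatorElement, QuotientGroup.mk'_apply,
    QuotientGroup.eq_one_iff]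

/-- A normal elementary subgroup of greatest order, at least eight, trivially meeting `B`. -/
structure Disj (D B E : Subgroup S) : Prop where
  pair : AbPair D B
  nE : E.Normal
  ea : IsEA E
  ge : 8 ≤ Nat.card E
  max : ∀ F : Subgroup S, F.Normal → IsEA F → Nat.card F ≤ Nat.card E
  disj : ∀ x ∈ E, x ∈ B → x = 1

variable {E : Subgroup S}

theorem Disj.exists_b (h : Disj D B E) : ∃ b ∈ B, b ≠ 1 :=
  (Subgroup.bot_or_exists_ne_one B).resolve_left fun e => by
    have := h.pair.cardB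
    rw [e, Subgroup.card_bot] at this
    omega

theorem Disj.inf_le_four (h : Disj D B E) : Nat.card ↥(E ⊓ D) ≤ 4 :=
  h.pair.card_disjoint inf_le_right fun x hx => h.disj x hx.1

theorem Disj.eaB (h : Disj D B E) : IsEA B := by
  intro β hβ
  by_contra hne
  haveI := h.nE
  have hE0 : E ⊓ D ≠ E := fun e => by
    have := h.pair.card_disjoint (inf_eq_left.1 e) h.disj
    have := h.ge
    omega
  have hDN : D ≤ centralizer ((E ⊓ D : Subgroup S) : Set S) := fun d hd =>
    mem_centralizer_iff.2 fun z hz => h.pair.comm z hz.2 d hd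
  have hEN : E ≤ centralizer ((E ⊓ D : Subgroup S) : Set S) := fun d hd =>
    mem_centralizer_iff.2 fun z hz => h.ea.comm hz.1 hd
  obtain ⟨x, hx, hxn, hfix⟩ := exists_fixed_mod h.pair.pg (A := B) (N := E ⊓ D) (M := E) inf_le_left
    hE0 ((h.pair.le.trans hDN).trans (centralizer_le_normalizer _))
    (by rw [Subgroup.normalizer_eq_top]; exact le_top) (hEN.trans (centralizer_le_normalizer _))
  have hc := hfix β hβ
  set c := ⁅β, x⁆ with hcdef
  have h1 : β * x = c * x * β := by rw [hcdef, commutatorElement_def]; group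
  have hcb : β * c = c * β := h.pair.comm β (h.pair.le hβ) c hc.2
  have hxb : x * (β * β) = β * β * x := by
    calc x * (β * β) = c * c * x * (β * β) := by rw [h.ea c hc.1, one_mul]
      _ = c * (c * x * β) * β := by group
      _ = c * (β * x) * β := by rw [← h1]
      _ = β * (c * x * β) := by rw [← mul_assoc c β x, ← hcb]; group
      _ = β * β * x := by rw [← h1, mul_assoc]
  exact hxn ⟨hx, h.pair.cen_eq _ (B.mul_mem hβ hβ) hne ▸ mem_cen.2 hxb⟩

theorem Disj.conj_mem (h : Disj D B E) {b : S} (hb : b ∈ B) {e : S} (he : e ∈ E) :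
    b * e * b ∈ E := by
  have := h.nE.conj_mem e he b
  rwa [inv_eq_of_mul_eq_one_right (h.eaB b hb)] at this

theorem Disj.card_fixed (h : Disj D B E) : Nat.card ↥(E ⊓ D) = 4 := by
  haveI : Fact (Nat.Prime 2) := ⟨Nat.prime_two⟩
  obtain ⟨b, hb, hb1⟩ := h.exists_b
  have h1 := card_le_sq_fix h.ea (h.eaB b hb) (fun e he => h.conj_mem hb he)
  rw [h.pair.cen_eq b hb hb1] at h1
  have h2 := h.inf_le_four
  have h3 := h.ge
  obtain ⟨k, hk⟩ := IsPGroup.iff_card.1 (h.pair.pg.to_subgroup (E ⊓ D))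
  rw [hk] at h1 h2 ⊢
  rcases k with _ | _ | _ | k
  · norm_num at h1; omega
  · norm_num at h1; omega
  · norm_num
  · have : 8 ≤ 2 ^ (k + 1 + 1 + 1) :=
      (by norm_num : 8 ≤ 2 ^ 3).trans (Nat.pow_le_pow_right (by norm_num) (by omega))
    omega

theorem Disj.card_E (h : Disj D B E) : Nat.card E = 8 ∨ Nat.card E = 16 := by
  haveI : Fact (Nat.Prime 2) := ⟨Nat.prime_two⟩
  obtain ⟨b, hb, hb1⟩ := h.exists_b
  have h1 := card_le_sq_fix h.ea (h.eaB b hb) (fun e he => h.conj_mem hb he)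
  rw [h.pair.cen_eq b hb hb1, h.card_fixed] at h1
  have h3 := h.ge
  obtain ⟨k, hk⟩ := IsPGroup.iff_card.1 (h.pair.pg.to_subgroup E)
  rw [hk] at h1 h3 ⊢
  rcases k with _ | _ | _ | _ | _ | k
  · norm_num at h3
  · norm_num at h3
  · norm_num at h3
  · exact Or.inl (by norm_num)
  · exact Or.inr (by norm_num)
  · have : 32 ≤ 2 ^ (k + 1 + 1 + 1 + 1 + 1) :=
      (by norm_num : 32 ≤ 2 ^ 5).trans (Nat.pow_le_pow_right (by norm_num) (by omega))
    omega

theorem Disj.cenE (h : Disj D B E) {d : S} (hd : d ∈ centralizer (E : Set S)) (hdD : d ∈ D) :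
    d ∈ E := by
  have hle : E ⊓ D ≤ centralizer (E : Set S) ⊓ D := fun z hz =>
    ⟨mem_centralizer_iff.2 fun w hw => h.ea.comm hw hz.1, hz.2⟩
  have h4 : Nat.card ↥(centralizer (E : Set S) ⊓ D) ≤ 4 := by
    by_contra h5
    obtain ⟨b, hb, hb1, hbC⟩ := h.pair.exists_mem_of_five
      (M := centralizer (E : Set S) ⊓ D) inf_le_right (by omega)
    have : E ≤ D := fun e he => h.pair.cen_eq b hb hb1 ▸
      mem_cen.2 ((mem_centralizer_iff.1 hbC.1) e he)
    have := h.pair.card_disjoint this h.disj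
    have := h.ge
    omega
  have := Subgroup.eq_of_le_of_card_ge hle (h4.trans h.card_fixed.ge)
  exact (this.ge ⟨hd, hdD⟩ : d ∈ E ⊓ D).1

theorem Disj.fixed (h : Disj D B E) {b γ : S} (hb : b ∈ B) (hb1 : b ≠ 1) (he : b * γ * b = γ) :
    γ ∈ D := by
  refine h.pair.cen_eq b hb hb1 ▸ mem_cen.2 ?_
  calc γ * b = b * γ * b * b := by rw [he]
    _ = b * γ := by rw [mul_assoc, h.eaB b hb, mul_one]

theorem Disj.adjust (h : Disj D B E) (h16 : Nat.card E = 16) {b : S} (hb : b ∈ B) (hb1 : b ≠ 1)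
    {g : S} (hg : ⁅b, g⁆ ∈ E) : ∃ e ∈ E, e * g ∈ D := by
  have hb2 := h.eaB b hb
  have hn : ∀ e ∈ E, b * e * b ∈ E := fun e he => h.conj_mem hb he
  have hγ : ⁅b, g⁆ ∈ E ⊓ cen b := by
    refine ⟨hg, ?_⟩
    rw [h.pair.cen_eq b hb hb1]
    exact h.fixed hb hb1 (by rw [conj_inv_of_invol hb2, h.ea.inv hg])
  have h4 : Nat.card ↥(E ⊓ cen b) = 4 := by rw [h.pair.cen_eq b hb hb1, h.card_fixed]
  have htop : (displ h.ea hb2 hn).range = ⊤ := by
    refine Subgroup.eq_top_of_card_eq _ ?_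
    have := card_eq_displ h.ea hb2 hn
    rw [h16, h4] at this
    omega
  obtain ⟨e, he⟩ : (⟨_, hγ⟩ : ↥(E ⊓ cen b)) ∈ (displ h.ea hb2 hn).range := htop ▸ mem_top _
  have he' : (e : S) * (b * e * b) = ⁅b, g⁆ := congrArg Subtype.val he
  refine ⟨e, e.2, h.pair.cen_eq b hb hb1 ▸ mem_cen.2 ?_⟩
  have h1 : b * (e : S) * b = e * ⁅b, g⁆ := by rw [← he', ← mul_assoc, h.ea e e.2, one_mul]
  have h2 : b * g = ⁅b, g⁆ * g * b := by rw [commutatorElement_def]; group
  symm
  calc b * ((e : S) * g) = b * e * (b * b) * g := by rw [hb2, mul_one, mul_assoc]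
    _ = (b * e * b) * (b * g) := by group
    _ = e * (⁅b, g⁆ * ⁅b, g⁆) * g * b := by rw [h1, h2]; group
    _ = (e : S) * g * b := by rw [h.ea _ hg, mul_one]

theorem Disj.decompD (h : Disj D B E) {d : S} (hd : d ∈ D) :
    ∃ e ∈ E, ∃ b ∈ B, d = e * b := by
  let f : ↥(E ⊓ D) × B → D := fun p =>
    ⟨(p.1 : S) * p.2, D.mul_mem p.1.2.2 (h.pair.le p.2.2)⟩
  have hf : Function.Injective f := by
    intro p q hpq
    have he : (p.1 : S) * p.2 = q.1 * q.2 := congrArg Subtype.val hpq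
    have h1 : (q.1 : S)⁻¹ * p.1 = q.2 * (p.2 : S)⁻¹ := by
      rw [eq_mul_inv_iff_mul_eq, mul_assoc, he, inv_mul_cancel_left]
    have h2 := h.disj _ (E.mul_mem (E.inv_mem q.1.2.1) p.1.2.1)
      (h1 ▸ B.mul_mem q.2.2 (B.inv_mem p.2.2))
    have e1 : (q.1 : S) = p.1 := inv_mul_eq_one.1 h2
    have e2 : (q.2 : S) = p.2 := (mul_left_cancel (e1 ▸ he)).symm
    exact Prod.ext (Subtype.ext e1.symm) (Subtype.ext e2.symm)
  have hbij := hf.bijective_of_nat_card_le (by
    rw [Nat.card_prod, h.card_fixed, h.pair.cardB, h.pair.cardD])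
  obtain ⟨p, hp⟩ := hbij.2 ⟨d, hd⟩
  exact ⟨p.1, p.1.2.1, p.2, p.2.2, (congrArg Subtype.val hp).symm⟩

theorem Disj.rank16 (h : Disj D B E) (h16 : Nat.card E = 16) :
    Cfsg.SectionalPRankLE 2 4 S := by
  haveI := h.nE
  haveI : Fact (Nat.Prime 2) := ⟨Nat.prime_two⟩
  obtain ⟨b, hb, hb1⟩ := h.exists_b
  have hEC : E ≤ centralizer (E : Set S) := fun z hz =>
    mem_centralizer_iff.2 fun w hw => h.ea.comm hw hz
  have hR : centralizer (E : Set S) = E := by
    by_contra hne
    obtain ⟨x, hx, hxn, hfix⟩ := exists_fixed_mod h.pair.pg (A := B) (N := E)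
      (M := centralizer (E : Set S)) hEC (Ne.symm hne)
      (by rw [Subgroup.normalizer_eq_top]; exact le_top)
      (by rw [Subgroup.normalizer_eq_top]; exact le_top)
      (by rw [Subgroup.normalizer_eq_top]; exact le_top)
    obtain ⟨e, he, hD⟩ := h.adjust h16 hb hb1 (hfix b hb)
    have := E.mul_mem (E.inv_mem he) (h.cenE ((centralizer (E : Set S)).mul_mem (hEC he) hx) hD)
    rw [inv_mul_cancel_left] at this
    exact hxn this
  have hEtop : E ≠ ⊤ := fun e => hb1 (h.disj b (e ▸ mem_top b) hb)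
  obtain ⟨z, -, hzn, hzc⟩ := exists_fixed_mod h.pair.pg (A := ⊤) (N := E) (M := ⊤) le_top hEtop
    (by rw [Subgroup.normalizer_eq_top]) (by rw [Subgroup.normalizer_eq_top])
    (by rw [Subgroup.normalizer_eq_top])
  obtain ⟨e, he, hD⟩ := h.adjust h16 hb hb1 (hzc b (mem_top b))
  obtain ⟨e₀, he₀, b₁, hb₁, heq⟩ := h.decompD hD
  have hb₁1 : b₁ ≠ 1 := by
    rintro rfl
    rw [mul_one] at heq
    refine hzn ?_
    have := E.mul_mem (E.inv_mem he) he₀
    rwa [← heq, inv_mul_cancel_left] at this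
  have hφ : QuotientGroup.mk' E z = QuotientGroup.mk' E b₁ := by
    have := congrArg (QuotientGroup.mk' E) heq
    rw [map_mul, map_mul, QuotientGroup.mk'_apply E e, QuotientGroup.mk'_apply E e₀,
      (QuotientGroup.eq_one_iff e).2 he, (QuotientGroup.eq_one_iff e₀).2 he₀, one_mul,
      one_mul] at this
    exact this
  have hall : ∀ g : S, ∃ e ∈ E, ∃ β ∈ B, g = e * β := by
    intro g
    have hcomm : ⁅b₁, g⁆ ∈ E := by
      rw [comm_mem_iff, ← hφ]
      exact ((comm_mem_iff E g z).1 (hzc g (mem_top g))).symm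
    obtain ⟨e', he', hD'⟩ := h.adjust h16 hb₁ hb₁1 hcomm
    obtain ⟨e'', he'', β, hβ, he2⟩ := h.decompD hD'
    refine ⟨e'⁻¹ * e'', E.mul_mem (E.inv_mem he') he'', β, hβ, ?_⟩
    rw [mul_assoc, ← he2, inv_mul_cancel_left]
  have hS : Nat.card S ≤ 64 := by
    have := Nat.card_le_card_of_surjective (fun p : E × B => (p.1 : S) * p.2) (fun g => by
      obtain ⟨e, he, β, hβ, rfl⟩ := hall g
      exact ⟨(⟨e, he⟩, ⟨β, hβ⟩), rfl⟩)
    rwa [Nat.card_prod, h16, h.pair.cardB] at this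
  refine rank_of_small h.pair.pg (by omega) (fun X hX hX32 => ?_)
    (fun H hH => h.pair.big_meets (by omega) hH)
  have hidx := Subgroup.card_mul_index E
  have hsplit := card_inf_ker_mul (QuotientGroup.mk' E) X
  rw [QuotientGroup.ker_mk'] at hsplit
  have himg : Nat.card (X.map (QuotientGroup.mk' E)) ≤ E.index := Subgroup.card_le_card_group _
  rw [h16] at hidx
  have h8 : 5 ≤ Nat.card ↥(X ⊓ E) := by
    by_contra hlt
    have := Nat.mul_le_mul (show Nat.card ↥(X ⊓ E) ≤ 4 by omega)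
      (show Nat.card (X.map (QuotientGroup.mk' E)) ≤ 4 by omega)
    omega
  obtain ⟨x, hxX, hxE⟩ : ∃ x ∈ X, x ∉ E := by
    by_contra hall'
    push Not at hall'
    have := Subgroup.card_le_of_le (show X ≤ E from hall')
    omega
  obtain ⟨e, he, β, hβ, rfl⟩ := hall x
  have hβ1 : β ≠ 1 := by rintro rfl; exact hxE (by simpa using he)
  have hle : X ⊓ E ≤ E ⊓ D := fun m hm => by
    refine ⟨hm.2, h.pair.cen_eq β hβ hβ1 ▸ mem_cen.2 (mul_left_cancel (a := e) ?_)⟩
    calc e * (m * β) = m * (e * β) := by rw [← mul_assoc, h.ea.comm he hm.2, mul_assoc]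
      _ = e * β * m := hX.comm hm.1 hxX
      _ = e * (β * m) := mul_assoc _ _ _
  have := Subgroup.card_le_of_le hle
  have := h.card_fixed
  omega

theorem le_normalizer_inf_normalizer {G : Type*} [Group G] (R N : Subgroup G) [R.Normal]
    {A : Subgroup G} (hA : A ≤ normalizer (N : Set G)) :
    A ≤ normalizer ((R ⊓ normalizer (N : Set G) : Subgroup G) : Set G) := by
  intro a ha
  rw [mem_normalizer_iff]
  intro x
  constructor
  · intro hx
    exact ⟨Subgroup.Normal.conj_mem ‹_› x hx.1 a,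
      Subgroup.mul_mem _ (Subgroup.mul_mem _ (hA ha) hx.2) (Subgroup.inv_mem _ (hA ha))⟩
  · intro hx
    have h1 := Subgroup.Normal.conj_mem ‹R.Normal› _ hx.1 a⁻¹
    have h2 := Subgroup.mul_mem _ (Subgroup.mul_mem _ (Subgroup.inv_mem _ (hA ha)) hx.2) (hA ha)
    rw [show a⁻¹ * (a * x * a⁻¹) * a⁻¹⁻¹ = x by group] at h1
    rw [show a⁻¹ * (a * x * a⁻¹) * a = x by group] at h2
    exact ⟨h1, h2⟩

/-- For `|E| = 8` the centraliser of `E` has order at most sixteen and is centralised by `B` modulo `E`. -/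
theorem Disj.layer (h : Disj D B E) (h8 : Nat.card E = 8) :
    Nat.card ↥(centralizer (E : Set S)) ≤ 16 := by
  haveI := h.nE
  haveI : Fact (Nat.Prime 2) := ⟨Nat.prime_two⟩
  obtain ⟨b₀, hb₀, hb₀1⟩ := h.exists_b
  set R := centralizer (E : Set S) with hR
  set R₁ : Subgroup S := R ⊓ (centralizer ((B.map (QuotientGroup.mk' E) : Subgroup (S ⧸ E)) :
    Set (S ⧸ E))).comap (QuotientGroup.mk' E) with hR₁
  have hmem : ∀ {x : S}, x ∈ R₁ ↔ x ∈ R ∧ ∀ β ∈ B, ⁅β, x⁆ ∈ E := fun {x} => by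
    rw [hR₁, Subgroup.mem_inf, Subgroup.mem_comap, mem_centralizer_iff]
    refine and_congr_right fun _ => ⟨fun hc β hβ => (comm_mem_iff E β x).2 (hc _ ⟨β, hβ, rfl⟩), ?_⟩
    rintro hc _ ⟨β, hβ, rfl⟩
    exact (comm_mem_iff E β x).1 (hc β hβ)
  have hER : E ≤ R := fun z hz => mem_centralizer_iff.2 fun w hw => h.ea.comm hw hz
  have hEφ : ∀ {e : S}, e ∈ E → QuotientGroup.mk' E e = 1 := fun {e} he => by
    rw [QuotientGroup.mk'_apply, QuotientGroup.eq_one_iff]
    exact he
  have hER₁ : E ≤ R₁ := fun z hz => hmem.2 ⟨hER hz, fun β _ => by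
    rw [comm_mem_iff, hEφ hz, mul_one, one_mul]⟩
  have hcard : Nat.card R₁ ≤ 16 := by
    let ψ : ↥R₁ →* S :=
      { toFun := fun x => ⁅b₀, (x : S)⁆
        map_one' := by simp
        map_mul' := fun x y => by
          have hy : (x : S) * ⁅b₀, (y : S)⁆ = ⁅b₀, (y : S)⁆ * x :=
            ((mem_centralizer_iff.1 (hmem.1 x.2).1) _ ((hmem.1 y.2).2 b₀ hb₀)).symm
          show ⁅b₀, (x : S) * y⁆ = ⁅b₀, (x : S)⁆ * ⁅b₀, (y : S)⁆
          calc ⁅b₀, (x : S) * y⁆ = ⁅b₀, (x : S)⁆ * ((x : S) * ⁅b₀, (y : S)⁆ * (x : S)⁻¹) := by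
                simp only [commutatorElement_def]; group
            _ = _ := by rw [hy, mul_inv_cancel_right] }
    have hran : ψ.range ≤ E ⊓ D := by
      rintro _ ⟨x, rfl⟩
      have hγ := (hmem.1 x.2).2 b₀ hb₀
      exact ⟨hγ, h.fixed hb₀ hb₀1 (show b₀ * ⁅b₀, (x : S)⁆ * b₀ = ⁅b₀, (x : S)⁆ by
        rw [conj_inv_of_invol (h.eaB b₀ hb₀), h.ea.inv hγ])⟩
    have hk : Nat.card ψ.ker ≤ Nat.card ↥(E ⊓ D) := by
      refine Nat.card_le_card_of_injective (fun x => (⟨x.1.1, ?_⟩ : ↥(E ⊓ D))) fun p q hpq => ?_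
      · have hxD : (x.1 : S) ∈ D := h.pair.cen_eq b₀ hb₀ hb₀1 ▸ mem_cen.2
          (commutatorElement_eq_one_iff_mul_comm.1 x.2).symm
        exact ⟨h.cenE (hmem.1 x.1.2).1 hxD, hxD⟩
      · exact Subtype.ext (Subtype.ext (congrArg (fun z : ↥(E ⊓ D) => (z : S)) hpq))
    have := Subgroup.card_mul_index ψ.ker
    rw [Subgroup.index_ker] at this
    rw [← this]
    exact Nat.mul_le_mul (hk.trans h.inf_le_four)
      ((Subgroup.card_le_of_le hran).trans h.inf_le_four)
  have hidx : (E.subgroupOf R₁).index = 1 ∨ (E.subgroupOf R₁).index = 2 := by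
    have := Subgroup.card_mul_index (E.subgroupOf R₁)
    rw [Nat.card_congr (subgroupOfEquivOfLe hER₁).toEquiv, h8] at this
    have := (E.subgroupOf R₁).index_ne_zero_of_finite
    omega
  have htwo : ∀ {x y : S}, x ∈ R₁ → y ∈ R₁ → x ∉ E → y ∉ E → x * y ∈ E := by
    intro x y hx hy hxE hyE
    rcases hidx with h1 | h2
    · have : (⟨x, hx⟩ : ↥R₁) ∈ E.subgroupOf R₁ := by rw [Subgroup.index_eq_one.1 h1]; exact mem_top _
      exact absurd this hxE
    · exact (Subgroup.mul_mem_iff_of_index_two h2 (a := ⟨x, hx⟩) (b := ⟨y, hy⟩)).2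
        ⟨fun e => absurd e hxE, fun e => absurd e hyE⟩
  have hcomm : ∀ {x y : S}, x ∈ R₁ → y ∈ R₁ → x * y = y * x := by
    intro x y hx hy
    by_cases hxE : x ∈ E
    · exact (mem_centralizer_iff.1 (hmem.1 hy).1) x hxE
    by_cases hyE : y ∈ E
    · exact ((mem_centralizer_iff.1 (hmem.1 hx).1) y hyE).symm
    have he := htwo (R₁.inv_mem hx) hy (fun e => hxE (by simpa using E.inv_mem e)) hyE
    have h1 := (mem_centralizer_iff.1 (hmem.1 hx).1) _ he
    calc x * y = x * (x * (x⁻¹ * y)) := by group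
      _ = x * ((x⁻¹ * y) * x) := by rw [h1]
      _ = y * x := by group
  suffices R ≤ R₁ from (Subgroup.card_le_of_le this).trans hcard
  by_contra hnot
  have hR₁R : R₁ ≤ R := inf_le_left
  have hBN : B ≤ normalizer (R₁ : Set S) := by
    have hfwd : ∀ β ∈ B, ∀ a ∈ R₁, β * a * β⁻¹ ∈ R₁ := fun β hβ a ha => by
      have := R₁.mul_mem (hER₁ ((hmem.1 ha).2 β hβ)) ha
      rwa [commutatorElement_def, inv_mul_cancel_right] at this
    intro β hβ
    rw [mem_normalizer_iff]
    refine fun a => ⟨hfwd β hβ a, fun ha => ?_⟩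
    have := hfwd β⁻¹ (B.inv_mem hβ) _ ha
    rwa [show β⁻¹ * (β * a * β⁻¹) * β⁻¹⁻¹ = a by group] at this
  have hM : R₁ ≠ R ⊓ normalizer (R₁ : Set S) := by
    haveI := (h.pair.pg.to_subgroup R).isNilpotent
    have hlt := Group.normalizerCondition_of_isNilpotent (R₁.subgroupOf R) (lt_top_iff_ne_top.2
      fun e => hnot fun x hx => show (⟨x, hx⟩ : ↥R) ∈ R₁.subgroupOf R from e ▸ mem_top _)
    obtain ⟨⟨x, hxR⟩, hxn, hx1⟩ := SetLike.exists_of_lt hlt
    intro e
    refine hx1 (show x ∈ R₁ from e.ge ⟨hxR, mem_normalizer_iff.2 fun a => ?_⟩)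
    constructor
    · intro ha
      exact (mem_normalizer_iff.1 hxn ⟨a, hR₁R ha⟩).1 ha
    · intro ha
      have haR : a ∈ R := by
        have := R.mul_mem (R.mul_mem (R.inv_mem hxR) (hR₁R ha)) hxR
        rwa [show x⁻¹ * (x * a * x⁻¹) * x = a by group] at this
      exact (mem_normalizer_iff.1 hxn ⟨a, haR⟩).2 ha
  obtain ⟨x, hx, hxn, hfix⟩ := exists_fixed_mod h.pair.pg (A := B) (N := R₁)
    (M := R ⊓ normalizer (R₁ : Set S)) (le_inf hR₁R le_normalizer) hM hBN
    (le_normalizer_inf_normalizer R R₁ hBN) inf_le_right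
  have hprod : ∀ β β' : S, ⁅β * β', x⁆ = β * ⁅β', x⁆ * β⁻¹ * ⁅β, x⁆ := fun β β' => by
    simp only [commutatorElement_def]; group
  obtain ⟨b₁, hb₁, hb₁1, hγ₁⟩ : ∃ β ∈ B, β ≠ 1 ∧ ⁅β, x⁆ ∈ E := by
    by_contra hno
    push Not at hno
    obtain ⟨b₂, hb₂, hb₂'⟩ : ∃ β ∈ B, β ∉ ({1, b₀} : Set S) := by
      by_contra hall
      push Not at hall
      have := Set.ncard_le_ncard (show (B : Set S) ⊆ {1, b₀} from hall) (Set.toFinite _)
      rw [← Nat.card_coe_set_eq, Set.ncard_pair (Ne.symm hb₀1)] at this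
      exact absurd (h.pair.cardB ▸ this) (by norm_num)
    simp only [Set.mem_insert_iff, Set.mem_singleton_iff, not_or] at hb₂'
    have hne : b₀ * b₂ ≠ 1 := fun e => hb₂'.2 (by
      rw [← inv_eq_of_mul_eq_one_right e, inv_eq_of_mul_eq_one_right (h.eaB b₀ hb₀)])
    refine hno _ (B.mul_mem hb₀ hb₂) hne ?_
    rw [hprod]
    have h1 := htwo (hfix b₂ hb₂) (hfix b₀ hb₀) (hno b₂ hb₂ hb₂'.1) (hno b₀ hb₀ hb₀1)
    have h2 := (hmem.1 (hfix b₂ hb₂)).2 b₀ hb₀
    have := E.mul_mem h2 h1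
    rwa [commutatorElement_def, ← mul_assoc, inv_mul_cancel_right] at this
  refine hxn (hmem.2 ⟨hx.1, fun b₂ hb₂ => ?_⟩)
  have hf₁ : ⁅b₁, x⁆ ∈ D := h.fixed hb₁ hb₁1
    (by rw [conj_inv_of_invol (h.eaB b₁ hb₁), h.ea.inv hγ₁])
  have h12 : b₁ * b₂ = b₂ * b₁ := h.eaB.comm hb₁ hb₂
  have e : ⁅b₁ * b₂, x⁆ = ⁅b₂ * b₁, x⁆ := by rw [h12]
  rw [hprod, hprod, h.pair.comm b₂ (h.pair.le hb₂) _ hf₁, mul_inv_cancel_right,
    hcomm (hfix b₁ hb₁) (hfix b₂ hb₂)] at e
  have e' := mul_right_cancel e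
  rw [inv_eq_of_mul_eq_one_right (h.eaB b₁ hb₁)] at e'
  exact h.cenE (hR₁R (hfix b₂ hb₂)) (h.fixed hb₁ hb₁1 e')

/-- `|S : C(E)| ≤ 8` for a normal elementary group of order eight. -/
theorem index_le_eight (hS : IsPGroup 2 S) [hn : E.Normal] (hE : IsEA E) (h8 : Nat.card E = 8) :
    (centralizer (E : Set S)).index ≤ 8 := by
  haveI : Fact (Nat.Prime 2) := ⟨Nat.prime_two⟩
  obtain ⟨z, hz, hz1⟩ := (Subgroup.bot_or_exists_ne_one _).resolve_left
    (PGroups.normal_inf_center_ne_bot hS E (fun e => by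
      rw [e, Subgroup.card_bot] at h8; norm_num at h8))
  have hzc : ∀ g : S, g * z = z * g := Subgroup.mem_center_iff.1 hz.2
  set Z := zpowers z with hZ
  haveI hZn : Z.Normal := ⟨fun n hn g => by
    obtain ⟨k, rfl⟩ := mem_zpowers_iff.1 hn
    rw [(Commute.zpow_right (hzc g) k).eq, mul_inv_cancel_right]
    exact zpow_mem_zpowers z k⟩
  have hZ2 : Nat.card Z ≤ 2 := by
    rw [hZ, Nat.card_zpowers]
    exact orderOf_le_of_pow_eq_one (by norm_num) (by rw [pow_two]; exact hE z hz.1)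
  have hZE : Z ≤ E := zpowers_le.2 hz.1
  obtain ⟨w, hw, hwn, hwc⟩ := exists_fixed_mod hS (A := ⊤) (N := Z) (M := E) hZE
    (fun e => by rw [e] at hZ2; omega)
    (by rw [Subgroup.normalizer_eq_top]) (by rw [Subgroup.normalizer_eq_top])
    (by rw [Subgroup.normalizer_eq_top]; exact le_top)
  set E₂ := Z ⊔ zpowers w with hE₂
  have hE₂E : E₂ ≤ E := sup_le hZE (zpowers_le.2 hw)
  have hcomm : ∀ g : S, ⁅g, w⁆ = 1 ∨ ⁅g, w⁆ = z := fun g => by
    obtain ⟨k, hk⟩ := mem_zpowers_iff.1 (hwc g (mem_top g))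
    rw [← hk]
    rcases Int.even_or_odd' k with ⟨m, rfl | rfl⟩
    · left; rw [zpow_mul, show z ^ (2 : ℤ) = 1 by rw [zpow_two]; exact hE z hz.1, one_zpow]
    · right
      rw [zpow_add, zpow_mul, show z ^ (2 : ℤ) = 1 by rw [zpow_two]; exact hE z hz.1, one_zpow,
        one_mul, zpow_one]
  have hwconj : ∀ g : S, g * w * g⁻¹ = w ∨ g * w * g⁻¹ = z * w := fun g => by
    have e : g * w * g⁻¹ = ⁅g, w⁆ * w := by rw [commutatorElement_def]; group
    rcases hcomm g with h | h <;> rw [e, h]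
    · left; rw [one_mul]
    · right; rfl
  have hE₂n : E₂.Normal := by
    refine ⟨fun n hn g => ?_⟩
    have : E₂ ≤ E₂.comap (MulAut.conj g).toMonoidHom := by
      refine sup_le (fun a ha => Subgroup.mem_sup_left (hZn.conj_mem a ha g)) (zpowers_le.2 ?_)
      show g * w * g⁻¹ ∈ E₂
      rcases hwconj g with e | e <;> rw [e]
      · exact Subgroup.mem_sup_right (mem_zpowers w)
      · exact E₂.mul_mem (Subgroup.mem_sup_left (mem_zpowers z))
          (Subgroup.mem_sup_right (mem_zpowers w))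
    exact this hn
  have hE₂4 : Nat.card E₂ = 4 := by
    have h1 : Z < E₂ := lt_of_le_of_ne le_sup_left fun e =>
      hwn (e.ge (Subgroup.mem_sup_right (mem_zpowers w)))
    have h2 := two_mul_le_of_lt h1
    have h3 : 1 < Nat.card Z :=
      (Subgroup.one_lt_card_iff_ne_bot Z).2 fun e => hz1 (zpowers_eq_bot.1 e)
    have h4 := card_inf_ker_mul (QuotientGroup.mk' Z) E₂
    rw [QuotientGroup.ker_mk', inf_eq_right.2 h1.le] at h4
    have h5 : Nat.card (E₂.map (QuotientGroup.mk' Z)) ≤ 2 := by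
      rw [hE₂, Subgroup.map_sup, (Subgroup.map_eq_bot_iff _).2 (by rw [QuotientGroup.ker_mk']),
        bot_sup_eq, MonoidHom.map_zpowers, Nat.card_zpowers]
      refine orderOf_le_of_pow_eq_one (by norm_num) ?_
      rw [← map_pow, pow_two, hE w hw, map_one]
    have := Nat.mul_le_mul hZ2 h5
    omega
  obtain ⟨e₃, he₃, he₃n⟩ : ∃ e ∈ E, e ∉ E₂ := by
    by_contra hall
    push Not at hall
    have := Subgroup.card_le_of_le (show E ≤ E₂ from hall)
    omega
  have hgen : E₂ ⊔ zpowers e₃ = E := by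
    refine Subgroup.eq_of_le_of_card_ge (sup_le hE₂E (zpowers_le.2 he₃)) ?_
    have := two_mul_le_of_lt (lt_of_le_of_ne (le_sup_left : E₂ ≤ E₂ ⊔ zpowers e₃) fun e =>
      he₃n (e.ge (Subgroup.mem_sup_right (mem_zpowers e₃))))
    omega
  have hT : ((E : Set S) \ (E₂ : Set S)).ncard = 4 := by
    rw [Set.ncard_diff (SetLike.coe_subset_coe.2 hE₂E) (Set.toFinite _), ← Nat.card_coe_set_eq,
      ← Nat.card_coe_set_eq]
    show Nat.card E - Nat.card E₂ = 4
    omega
  let f : S ⧸ centralizer (E : Set S) → ↥({w, z * w} : Set S) × ↥((E : Set S) \ (E₂ : Set S)) :=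
    fun q => (⟨q.out * w * q.out⁻¹, by simpa using hwconj q.out⟩,
      ⟨q.out * e₃ * q.out⁻¹, hn.conj_mem e₃ he₃ _, fun e => he₃n (by
        have := hE₂n.conj_mem _ e q.out⁻¹
        rwa [show q.out⁻¹ * (q.out * e₃ * q.out⁻¹) * q.out⁻¹⁻¹ = e₃ by group] at this)⟩)
  have hf : Function.Injective f := by
    intro p q hpq
    have h1 : p.out * w * p.out⁻¹ = q.out * w * q.out⁻¹ :=
      congrArg (fun t : ↥({w, z * w} : Set S) × ↥((E : Set S) \ (E₂ : Set S)) => (t.1 : S)) hpq
    have h2 : p.out * e₃ * p.out⁻¹ = q.out * e₃ * q.out⁻¹ :=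
      congrArg (fun t : ↥({w, z * w} : Set S) × ↥((E : Set S) \ (E₂ : Set S)) => (t.2 : S)) hpq
    have key : ∀ a : S, p.out * a * p.out⁻¹ = q.out * a * q.out⁻¹ → a ∈ cen (p.out⁻¹ * q.out) := by
      intro a ha
      refine mem_cen.2 ?_
      calc a * (p.out⁻¹ * q.out) = p.out⁻¹ * (p.out * a * p.out⁻¹) * q.out := by group
        _ = p.out⁻¹ * q.out * a := by rw [ha]; group
    have hle : E ≤ cen (p.out⁻¹ * q.out) := by
      refine hgen.ge.trans ?_
      exact sup_le (sup_le (zpowers_le.2 (mem_cen.2 (hzc _).symm)) (zpowers_le.2 (key w h1)))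
        (zpowers_le.2 (key e₃ h2))
    have hm : p.out⁻¹ * q.out ∈ centralizer (E : Set S) :=
      mem_centralizer_iff.2 fun a ha => mem_cen.1 (hle ha)
    rw [← QuotientGroup.out_eq' p, ← QuotientGroup.out_eq' q]
    exact QuotientGroup.eq.2 hm
  rw [Subgroup.index]
  refine (Nat.card_le_card_of_injective f hf).trans ?_
  rw [Nat.card_prod, Nat.card_coe_set_eq, Nat.card_coe_set_eq, hT]
  have := Set.ncard_insert_le w {z * w}
  rw [Set.ncard_singleton] at this
  omega

theorem Disj.rank8 (h : Disj D B E) (h8 : Nat.card E = 8) : Cfsg.SectionalPRankLE 2 4 S := by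
  haveI := h.nE
  haveI : Fact (Nat.Prime 2) := ⟨Nat.prime_two⟩
  set R := centralizer (E : Set S) with hRdef
  have hR16 : Nat.card R ≤ 16 := h.layer h8
  have hR8 := index_le_eight h.pair.pg h.ea h8
  rw [← hRdef] at hR8
  have hmul := Subgroup.card_mul_index R
  have hS : Nat.card S ≤ 128 := hmul ▸ Nat.mul_le_mul hR16 hR8
  refine rank_of_small h.pair.pg hS (fun X hX hX32 => ?_) (fun H hH => h.pair.big_meets hS hH)
  have hER : E ≤ R := fun z hz => mem_centralizer_iff.2 fun w hw => h.ea.comm hw hz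
  have hsplit := card_inf_ker_mul (QuotientGroup.mk' R) X
  rw [QuotientGroup.ker_mk'] at hsplit
  have hinf : Nat.card ↥(X ⊓ R) ≤ 16 := (Subgroup.card_le_of_le inf_le_right).trans hR16
  have himg : Nat.card (X.map (QuotientGroup.mk' R)) ≤ R.index := Subgroup.card_le_card_group _
  by_cases h8' : Nat.card (X.map (QuotientGroup.mk' R)) = 8
  · have htop : X.map (QuotientGroup.mk' R) = ⊤ :=
      Subgroup.eq_top_of_card_eq _ (le_antisymm (Subgroup.card_le_card_group _) (by
        show R.index ≤ _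
        omega))
    have hab : ∀ g β : S, ⁅β, g⁆ ∈ R := fun g β => by
      rw [comm_mem_iff]
      obtain ⟨x, hx, hxg⟩ : QuotientGroup.mk' R g ∈ X.map (QuotientGroup.mk' R) := htop ▸ mem_top _
      obtain ⟨y, hy, hyg⟩ : QuotientGroup.mk' R β ∈ X.map (QuotientGroup.mk' R) := htop ▸ mem_top _
      rw [← hxg, ← hyg, ← map_mul, ← map_mul, hX.comm hy hx]
    have hconj : ∀ g e β : S, e ∈ E → β ∈ B →
        β * (g * e * g⁻¹) * β = g * (β * e * β) * g⁻¹ := by
      intro g e β he hβ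
      have hi := inv_eq_of_mul_eq_one_right (h.eaB β hβ)
      have hm : g * (β * e * β) * g⁻¹ ∈ E := h.nE.conj_mem _ (h.conj_mem hβ he) g
      have hrm := (mem_centralizer_iff.1 (hab g β)) _ hm
      calc β * (g * e * g⁻¹) * β = β * (g * e * g⁻¹) * β⁻¹ := by rw [hi]
        _ = ⁅β, g⁆ * (g * (β * e * β⁻¹) * g⁻¹) * ⁅β, g⁆⁻¹ := by
            simp only [commutatorElement_def]; group
        _ = g * (β * e * β) * g⁻¹ := by rw [hi, ← hrm, mul_inv_cancel_right]
    obtain ⟨e, he, heD⟩ : ∃ e ∈ E, e ∉ D := by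
      by_contra hall
      push Not at hall
      have := h.pair.card_disjoint (show E ≤ D from hall) h.disj
      omega
    have hidx : ((E ⊓ D).subgroupOf E).index = 2 := by
      have := Subgroup.card_mul_index ((E ⊓ D).subgroupOf E)
      rw [Nat.card_congr (subgroupOfEquivOfLe (inf_le_left : E ⊓ D ≤ E)).toEquiv, h.card_fixed,
        h8] at this
      omega
    have htwo : ∀ {a b : S}, a ∈ E → b ∈ E → a ∉ D → b ∉ D → a * b ∈ D := fun {a b} ha hb haD hbD =>
      ((Subgroup.mul_mem_iff_of_index_two hidx (a := ⟨a, ha⟩) (b := ⟨b, hb⟩)).2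
        ⟨fun t => absurd t.2 haD, fun t => absurd t.2 hbD⟩).2
    have hfixD : ∀ {β m : S}, β ∈ B → m ∈ D → β * m * β = m := fun {β m} hβ hm => by
      rw [h.pair.comm β (h.pair.le hβ) m hm, mul_assoc, h.eaB β hβ, mul_one]
    -- the displacement does not depend on the element outside `D`
    have hc : ∀ {β e' : S}, β ∈ B → e' ∈ E → e' ∉ D → e' * (β * e' * β) = e * (β * e * β) := by
      intro β e' hβ he' he'D
      have hm := htwo he he' heD he'D
      obtain ⟨m, rfl⟩ : ∃ m, e' = e * m := ⟨e * e', by rw [← mul_assoc, h.ea e he, one_mul]⟩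
      rw [← mul_assoc, h.ea e he, one_mul] at hm
      have hmE : m ∈ E := by
        have := E.mul_mem he he'
        rwa [← mul_assoc, h.ea e he, one_mul] at this
      have h1 : β * (e * m) * β = (β * e * β) * m := by
        conv_rhs => rw [← hfixD hβ hm]
        simp only [mul_assoc]
        rw [← mul_assoc β β, h.eaB β hβ, one_mul]
      rw [h1, Commute.mul_mul_mul_comm (h.ea.comm hmE (h.conj_mem hβ he)) e m, h.ea m hmE, mul_one]
    -- every element of `E ⊓ D` is a displacement of `e`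
    have hsurj : ∀ d ∈ E ⊓ D, ∃ β ∈ B, d = e * (β * e * β) := by
      have hmem : ∀ β : B, e * ((β : S) * e * β) ∈ E ⊓ D := fun β => by
        refine ⟨E.mul_mem he (h.conj_mem β.2 he), ?_⟩
        by_cases hβ1 : (β : S) = 1
        · rw [hβ1, one_mul, mul_one, h.ea e he]; exact D.one_mem
        refine h.fixed β.2 hβ1 ?_
        rw [show (β : S) * (e * ((β : S) * e * β)) * β = (β * e * β) * e * ((β : S) * β) by group,
          h.eaB _ β.2, mul_one, h.ea.comm (h.conj_mem β.2 he) he]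
      have hinj : Function.Injective (fun β : B => (⟨_, hmem β⟩ : ↥(E ⊓ D))) := by
        intro p q hpq
        have h1 : (p : S) * e * p = q * e * q := mul_left_cancel (congrArg Subtype.val hpq)
        by_contra hne
        have hpq1 : (p : S) * q ≠ 1 := fun t => hne (Subtype.ext (by
          rw [← inv_eq_of_mul_eq_one_right t, inv_eq_of_mul_eq_one_right (h.eaB _ p.2)]))
        refine heD (h.pair.cen_eq _ (B.mul_mem p.2 q.2) hpq1 ▸ mem_cen.2 ?_)
        calc e * ((p : S) * q) = (p * p) * e * (p * q) := by rw [h.eaB _ p.2, one_mul]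
          _ = p * (p * e * p) * q := by group
          _ = p * q * e := by
            rw [h1, show (p : S) * ((q : S) * e * q) * q = p * q * e * ((q : S) * q) by group,
              h.eaB _ q.2, mul_one]
      have hbij := hinj.bijective_of_nat_card_le (by rw [h.card_fixed, h.pair.cardB])
      intro d hd
      obtain ⟨β, hβ⟩ := hbij.2 ⟨d, hd⟩
      exact ⟨β, β.2, (congrArg Subtype.val hβ).symm⟩
    have hle4 : R.index ≤ 4 := by
      rw [Subgroup.index, ← h.pair.cardB]
      refine Nat.card_le_card_of_surjective (fun β : B => QuotientGroup.mk' R (β : S)) fun q => ?_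
      obtain ⟨g, rfl⟩ := QuotientGroup.mk'_surjective R q
      have hout : g * e * g⁻¹ ∉ D := fun hd => heD (by
        obtain ⟨β, hβ, hβ1⟩ := h.exists_b
        refine h.fixed hβ hβ1 ?_
        have h1 := hconj g e β he hβ
        rw [hfixD hβ hd] at h1
        exact (mul_left_cancel (mul_right_cancel h1)).symm)
      have hin := h.nE.conj_mem e he g
      have hfix0 : ∀ d ∈ E ⊓ D, g * d * g⁻¹ = d := by
        intro d hd
        obtain ⟨β, hβ, rfl⟩ := hsurj d hd
        calc g * (e * (β * e * β)) * g⁻¹ = (g * e * g⁻¹) * (g * (β * e * β) * g⁻¹) := by group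
          _ = (g * e * g⁻¹) * (β * (g * e * g⁻¹) * β) := by rw [hconj g e β he hβ]
          _ = _ := hc hβ hin hout
      obtain ⟨β, hβ, hge⟩ := hsurj _ ⟨E.mul_mem he hin, htwo he hin heD hout⟩
      refine ⟨⟨β, hβ⟩, ?_⟩
      show QuotientGroup.mk' R β = QuotientGroup.mk' R g
      have hge' : g * e * g⁻¹ = β * e * β := mul_left_cancel hge
      have hi := inv_eq_of_mul_eq_one_right (h.eaB β hβ)
      rw [QuotientGroup.mk'_apply, QuotientGroup.mk'_apply, QuotientGroup.eq, hi]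
      refine mem_centralizer_iff.2 fun m hm => ?_
      have hfd : ∀ d ∈ E ⊓ D, d * (β * g) = β * g * d := by
        intro d hd
        calc d * (β * g) = (d * β) * g := (mul_assoc _ _ _).symm
          _ = β * (d * g) := by rw [h.pair.comm d hd.2 β (h.pair.le hβ), mul_assoc]
          _ = β * ((g * d * g⁻¹) * g) := by rw [hfix0 d hd]
          _ = β * g * d := by group
      have hfe : e * (β * g) = β * g * e := by
        calc e * (β * g) = (β * β) * e * (β * g) := by rw [h.eaB β hβ, one_mul]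
          _ = β * (g * e * g⁻¹) * g := by rw [hge']; group
          _ = β * g * e := by group
      by_cases hmD : m ∈ D
      · exact hfd m ⟨hm, hmD⟩
      · have hd : e * m ∈ E ⊓ D := ⟨E.mul_mem he hm, htwo he hm heD hmD⟩
        have hm' : m = e * (e * m) := by rw [← mul_assoc, h.ea e he, one_mul]
        rw [hm', mul_assoc, hfd _ hd, ← mul_assoc, hfe, mul_assoc]
    omega
  · obtain ⟨k, hk⟩ := IsPGroup.iff_card.1
      ((h.pair.pg.to_quotient R).to_subgroup (X.map (QuotientGroup.mk' R)))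
    have h4 : Nat.card (X.map (QuotientGroup.mk' R)) ≤ 4 := by
      rw [hk] at h8' himg ⊢
      rcases k with _ | _ | _ | _ | k
      · norm_num
      · norm_num
      · norm_num
      · norm_num at h8'
      · have : 16 ≤ 2 ^ (k + 1 + 1 + 1 + 1) :=
          (by norm_num : 16 ≤ 2 ^ 4).trans (Nat.pow_le_pow_right (by norm_num) (by omega))
        omega
    have h8'' : 8 ≤ Nat.card ↥(X ⊓ R) := by
      by_contra hlt
      have := Nat.mul_le_mul (show Nat.card ↥(X ⊓ R) ≤ 7 by omega) h4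
      omega
    have hsub : X ⊓ R ≤ E := by
      intro x hx
      by_contra hxE
      have hEx : E ≤ cen x := fun a ha => mem_cen.2 ((mem_centralizer_iff.1 hx.2) a ha)
      have hF := h.ea.sup_zpowers (hX x hx.1) hEx
      have h16 := two_mul_le_of_lt (lt_of_le_of_ne (le_sup_left : E ≤ E ⊔ zpowers x) fun t =>
        hxE (t.ge (Subgroup.mem_sup_right (mem_zpowers x))))
      have hFR := Subgroup.eq_of_le_of_card_ge (sup_le hER (zpowers_le.2 hx.2))
        (show Nat.card R ≤ Nat.card ↥(E ⊔ zpowers x) by omega)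
      have := h.max R inferInstance (hFR ▸ hF)
      rw [hFR] at h16
      omega
    have heq := Subgroup.eq_of_le_of_card_ge hsub (h8.le.trans h8'')
    have : X ≤ R := fun x hx => mem_centralizer_iff.2 fun a ha => by
      exact hX.comm ((heq.ge ha : a ∈ X ⊓ R).1) hx
    have := Subgroup.card_le_of_le this
    omega

/-- The rank bound for an abelian intersection. -/
theorem AbPair.rank (h : AbPair D B) : Cfsg.SectionalPRankLE 2 4 S := by
  by_cases hbig : ∃ E : Subgroup S, E.Normal ∧ IsEA E ∧ 8 ≤ Nat.card E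
  · haveI : Nonempty {E : Subgroup S // E.Normal ∧ IsEA E ∧ 8 ≤ Nat.card E} :=
      ⟨⟨hbig.choose, hbig.choose_spec⟩⟩
    obtain ⟨⟨E, hEn, hE, hE8⟩, hmax⟩ := Finite.exists_max
      (fun E : {E : Subgroup S // E.Normal ∧ IsEA E ∧ 8 ≤ Nat.card E} => Nat.card E.1)
    by_cases hmeet : ∃ b ∈ B, b ≠ 1 ∧ b ∈ E
    · obtain ⟨b, hb, hb1, hbE⟩ := hmeet
      exact h.rank_meet hEn hE hE8 hb hb1 hbE
    push Not at hmeet
    have hd : Disj D B E := ⟨h, hEn, hE, hE8, fun F hFn hF => by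
      by_cases h8 : 8 ≤ Nat.card F
      · exact hmax ⟨F, hFn, hF, h8⟩
      · omega, fun x hx hxB => by_contra fun h1 => hmeet x hxB h1 hx⟩
    rcases hd.card_E with h8 | h16
    · exact hd.rank8 h8
    · exact hd.rank16 h16
  · push Not at hbig
    refine Cfsg.Agent.S0501.result h.pg fun A hA _ hA2 => ?_
    have hEA : IsEA A := fun a ha => by rw [← pow_two]; exact hA2 a ha
    haveI : Fact (Nat.Prime 2) := ⟨Nat.prime_two⟩
    obtain ⟨k, hk⟩ := IsPGroup.iff_card.1 (h.pg.to_subgroup A)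
    have := hbig A hA hEA
    rw [hk] at this ⊢
    rcases k with _ | _ | _ | k
    · norm_num
    · norm_num
    · norm_num
    · have : 8 ≤ 2 ^ (k + 1 + 1 + 1) :=
        (by norm_num : 8 ≤ 2 ^ 3).trans (Nat.pow_le_pow_right (by norm_num) (by omega))
      omega

end Cfsg.Agent.Lib.FixityFour61
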