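import Cfsg.Agent.Lib.FixityFour61.RankLemmas
import Mathlib.GroupTheory.Perm.Fin
import Mathlib.Data.Fintype.Perm
import Mathlib.GroupTheory.SpecificGroups.Cyclic

/-!
# Fixity four: a `2`-group seen on two sets of four points

helper61, for S3365.
-/

set_option autoImplicit false

namespace Cfsg.Agent.Lib.FixityFour61

open Subgroup
open scoped commutatorElement

set_option synthInstance.maxSize 2000 in
set_option synthInstance.maxHeartbeats 200000 in
theorem perm_four : ∀ s t : Equiv.Perm (Fin 4), s * s = 1 → t * t = 1 → s * t = t * s →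
    s ≠ 1 → t ≠ 1 → s ≠ t →
    ∀ x : Equiv.Perm (Fin 4), x * s = s * x → x * t = t * x → x = 1 ∨ x = s ∨ x = t ∨ x = s * t := by
  decide +kernel

theorem perm_fix_sq : ∀ p : Equiv.Perm (Fin 4), p 0 = 0 → p ^ 8 = 1 → p * p = 1 := by
  decide +kernel

theorem card_EA_perm_le (E : Subgroup (Equiv.Perm (Fin 4))) (hE : IsEA E) : Nat.card E ≤ 4 := by
  classical
  by_cases h : ∃ s ∈ E, ∃ t ∈ E, s ≠ 1 ∧ t ≠ 1 ∧ s ≠ t
  · obtain ⟨s, hs, t, ht, h1, h2, h3⟩ := h
    have hsub : (E : Set (Equiv.Perm (Fin 4))) ⊆ ({1, s, t, s * t} : Set (Equiv.Perm (Fin 4))) :=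
      fun x hx => by
        have := perm_four s t (hE s hs) (hE t ht) (hE.comm hs ht) h1 h2 h3 x (hE.comm hx hs)
          (hE.comm hx ht)
        simpa using this
    calc Nat.card E = (E : Set (Equiv.Perm (Fin 4))).ncard := Nat.card_coe_set_eq _
      _ ≤ ({1, s, t, s * t} : Set (Equiv.Perm (Fin 4))).ncard := Set.ncard_le_ncard hsub (Set.toFinite _)
      _ ≤ 4 := by
        refine (Set.ncard_insert_le _ _).trans (Nat.add_le_add_right ?_ 1)
        refine (Set.ncard_insert_le _ _).trans (Nat.add_le_add_right ?_ 1)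
        refine (Set.ncard_insert_le _ _).trans (Nat.add_le_add_right ?_ 1)
        rw [Set.ncard_singleton]
  · push Not at h
    by_cases h' : ∃ s ∈ E, s ≠ 1
    · obtain ⟨s, hs, h1⟩ := h'
      have hsub : (E : Set (Equiv.Perm (Fin 4))) ⊆ ({1, s} : Set (Equiv.Perm (Fin 4))) := fun x hx => by
        by_cases hx1 : x = 1
        · exact Or.inl hx1
        · exact Or.inr (h s hs x hx h1 hx1).symm
      calc Nat.card E = (E : Set (Equiv.Perm (Fin 4))).ncard := Nat.card_coe_set_eq _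
        _ ≤ ({1, s} : Set (Equiv.Perm (Fin 4))).ncard := Set.ncard_le_ncard hsub (Set.toFinite _)
        _ ≤ 4 := by
          refine (Set.ncard_insert_le _ _).trans ?_
          rw [Set.ncard_singleton]; norm_num
    · push Not at h'
      have : E = ⊥ := (Subgroup.eq_bot_iff_forall _).2 h'
      rw [this, Subgroup.card_bot]; norm_num

theorem mem_EA_perm (E : Subgroup (Equiv.Perm (Fin 4))) (hE : IsEA E) (h4 : Nat.card E = 4)
    {x : Equiv.Perm (Fin 4)} (hx : ∀ e ∈ E, x * e = e * x) : x ∈ E := by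
  classical
  have : ∃ s ∈ E, ∃ t ∈ E, s ≠ 1 ∧ t ≠ 1 ∧ s ≠ t := by
    have hc : (E : Set (Equiv.Perm (Fin 4))).ncard = 4 := by rw [← Nat.card_coe_set_eq]; exact h4
    have h3 : 1 < ((E : Set (Equiv.Perm (Fin 4))) \ {1}).ncard := by
      rw [Set.ncard_diff_singleton_of_mem E.one_mem, hc]; norm_num
    obtain ⟨s, t, hs, ht, hst⟩ := (Set.one_lt_ncard_iff (Set.toFinite _)).1 h3
    exact ⟨s, hs.1, t, ht.1, hs.2, ht.2, hst⟩
  obtain ⟨s, hs, t, ht, h1, h2, h3⟩ := this
  rcases perm_four s t (hE s hs) (hE t ht) (hE.comm hs ht) h1 h2 h3 x (hx s hs) (hx t ht) with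
    e | e | e | e <;> rw [e]
  · exact E.one_mem
  · exact hs
  · exact ht
  · exact E.mul_mem hs ht

theorem card_inf_ker_mul {G H : Type*} [Group G] [Group H] (f : G →* H) (E : Subgroup G) :
    Nat.card E = Nat.card ↥(E ⊓ f.ker) * Nat.card (E.map f) := by
  rw [show E.map f = (f.comp E.subtype).range by rw [MonoidHom.range_comp, Subgroup.range_subtype],
    ← Subgroup.index_ker,
    ← Subgroup.card_mul_index (f.comp E.subtype).ker]
  congr 1
  exact Nat.card_congr ⟨fun e => ⟨e.1.1, e.1.2, e.2⟩, fun e => ⟨⟨e.1, e.2.1⟩, e.2.2⟩,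
    fun _ => rfl, fun _ => rfl⟩

theorem comm_of_card_four {G : Type*} [Group G] [Finite G] (A : Subgroup G) (h : Nat.card A = 4)
    {a b : G} (ha : a ∈ A) (hb : b ∈ A) : a * b = b * a := by
  haveI : Fact (Nat.Prime 2) := ⟨Nat.prime_two⟩
  exact congrArg Subtype.val
    ((IsPGroup.isMulCommutative_of_card_eq_prime_sq (p := 2) (G := ↥A) (by rw [h]; norm_num)).1.1
      ⟨a, ha⟩ ⟨b, hb⟩)

theorem EA_of_card_two {G : Type*} [Group G] (A : Subgroup G) (h : Nat.card A = 2) : IsEA A := by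
  intro a ha
  have := pow_card_eq_one' (x := (⟨a, ha⟩ : A))
  rw [h, pow_two] at this
  exact congrArg Subtype.val this

variable {S : Type*} [Group S] [Finite S]

/-- A `2`-group with a subgroup acting on two sets of four points with small kernels. -/
structure Conf (D : Subgroup S) (π π' : ↥D →* Equiv.Perm (Fin 4)) : Prop where
  pg : IsPGroup 2 S
  sep : ∀ d, π d = 1 → π' d = 1 → d = 1
  cardA : Nat.card π.ker ≤ 4
  cardB : Nat.card π'.ker ≤ 4
  transA : Nat.card π.ker = 4 → ∀ i, ∃ a, π a = 1 ∧ π' a 0 = i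
  transB : Nat.card π'.ker = 4 → ∀ i, ∃ b, π' b = 1 ∧ π b 0 = i
  cen_le : ∀ b : ↥D, π' b = 1 → b ≠ 1 → cen (b : S) ≤ D
  neA : π.ker ≠ ⊥
  neB : π'.ker ≠ ⊥

/-- A four-group. -/
def Four {G : Type*} [Group G] (A : Subgroup G) : Prop := Nat.card A = 4 ∧ IsEA A

variable {D : Subgroup S} {π π' : ↥D →* Equiv.Perm (Fin 4)}

/-- The product of the two kernels. -/
def InAB (π π' : ↥D →* Equiv.Perm (Fin 4)) (d : ↥D) : Prop :=
  ∃ a b, π a = 1 ∧ π' b = 1 ∧ d = a * b

theorem Conf.comm (h : Conf D π π') {a b : ↥D} (ha : π a = 1) (hb : π' b = 1) :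
    a * b = b * a := by
  have h1 : π ⁅a, b⁆ = 1 := by rw [map_commutatorElement, ha, commutatorElement_one_left]
  have h2 : π' ⁅a, b⁆ = 1 := by rw [map_commutatorElement, hb, commutatorElement_one_right]
  exact commutatorElement_eq_one_iff_mul_comm.1 (h.sep _ h1 h2)

theorem Conf.unique (h : Conf D π π') {a a' b b' : ↥D} (ha : π a = 1) (ha' : π a' = 1)
    (hb : π' b = 1) (hb' : π' b' = 1) (he : a * b = a' * b') : a = a' ∧ b = b' := by
  have h1 : a'⁻¹ * a = b' * b⁻¹ := by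
    rw [eq_mul_inv_iff_mul_eq, mul_assoc, he, inv_mul_cancel_left]
  have h2 : a'⁻¹ * a = 1 := h.sep _ (by rw [map_mul, map_inv, ha', ha, inv_one, one_mul])
    (by rw [h1, map_mul, map_inv, hb', hb, inv_one, one_mul])
  have h3 : a = a' := (inv_mul_eq_one.1 h2).symm
  subst h3
  exact ⟨rfl, mul_left_cancel he⟩

theorem Conf.card_two_or_four (h : Conf D π π') {K : Subgroup ↥D} (hne : K ≠ ⊥)
    (hle : Nat.card K ≤ 4) : Nat.card K = 2 ∨ Nat.card K = 4 := by
  haveI : Fact (Nat.Prime 2) := ⟨Nat.prime_two⟩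
  obtain ⟨k, hk⟩ := IsPGroup.iff_card.1 ((h.pg.to_subgroup D).to_subgroup K)
  have h1 : Nat.card K ≠ 1 := fun e => hne (Subgroup.card_eq_one.1 e)
  rcases k with _ | _ | _ | k
  · exact absurd (hk.trans (pow_zero 2)) h1
  · exact Or.inl hk
  · exact Or.inr hk
  · have : 2 ^ 3 ≤ Nat.card K := hk ▸ Nat.pow_le_pow_right (by norm_num) (by omega)
    norm_num at this
    omega

theorem Conf.centralA (h : Conf D π π') (h4 : Nat.card π.ker = 4) {x : ↥D}
    (hx : ∀ a, π a = 1 → x * a = a * x) : InAB π π' x := by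
  obtain ⟨a, ha, hai⟩ := h.transA h4 (π' x 0)
  refine ⟨a, a⁻¹ * x, ha, ?_, by group⟩
  have h0 : π' (a⁻¹ * x) 0 = 0 := by
    rw [map_mul, Equiv.Perm.mul_apply, ← hai, map_inv]
    exact Equiv.symm_apply_apply _ _
  refine Equiv.ext fun i => ?_
  obtain ⟨a', ha', rfl⟩ := h.transA h4 i
  have hc : (a⁻¹ * x) * a' = a' * (a⁻¹ * x) := by
    rw [mul_assoc, hx a' ha', ← mul_assoc,
      comm_of_card_four π.ker h4 (Subgroup.inv_mem _ ha) ha', mul_assoc]
  have := congrArg (fun q => π' q 0) hc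
  simp only [map_mul, Equiv.Perm.mul_apply] at this
  simp only [map_mul, Equiv.Perm.mul_apply] at h0 ⊢
  rw [this, h0, Equiv.Perm.coe_one, id_eq]

theorem Conf.centralB (h : Conf D π π') (h4 : Nat.card π'.ker = 4) {x : ↥D}
    (hx : ∀ b, π' b = 1 → x * b = b * x) : InAB π π' x := by
  obtain ⟨b, hb, hbi⟩ := h.transB h4 (π x 0)
  have h0 : π (b⁻¹ * x) 0 = 0 := by
    rw [map_mul, Equiv.Perm.mul_apply, ← hbi, map_inv]
    exact Equiv.symm_apply_apply _ _
  have ha : π (b⁻¹ * x) = 1 := by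
    refine Equiv.ext fun i => ?_
    obtain ⟨b', hb', rfl⟩ := h.transB h4 i
    have hc : (b⁻¹ * x) * b' = b' * (b⁻¹ * x) := by
      rw [mul_assoc, hx b' hb', ← mul_assoc,
        comm_of_card_four π'.ker h4 (Subgroup.inv_mem _ hb) hb', mul_assoc]
    have := congrArg (fun q => π q 0) hc
    simp only [map_mul, Equiv.Perm.mul_apply] at this
    simp only [map_mul, Equiv.Perm.mul_apply] at h0 ⊢
    rw [this, h0, Equiv.Perm.coe_one, id_eq]
  refine ⟨b⁻¹ * x, b, ha, hb, ?_⟩
  rw [h.comm ha hb]; group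

theorem card_map_subtype (D : Subgroup S) (X : Subgroup ↥D) :
    Nat.card (X.map D.subtype) = Nat.card X :=
  Subgroup.card_map_of_injective D.subtype_injective

theorem IsEA.map_subtype {D : Subgroup S} {X : Subgroup ↥D} (hX : IsEA X) :
    IsEA (X.map D.subtype) := by
  rintro _ ⟨a, ha, rfl⟩
  rw [← map_mul, hX a ha, map_one]

/-- A subgroup of order eight of `D` through a point of `B`, self-centralising in `D`. -/
theorem Conf.rank_of_local (h : Conf D π π') {X : Subgroup ↥D} (hX : IsEA X) (h8 : Nat.card X = 8)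
    {b : ↥D} (hbX : b ∈ X) (hb : π' b = 1) (hb1 : b ≠ 1)
    (hC : ∀ d : ↥D, (∀ x ∈ X, d * x = x * d) → d ∈ X) : Cfsg.SectionalPRankLE 2 4 S := by
  refine rank_of_eight h.pg hX.map_subtype ((card_map_subtype D X).trans h8) fun c hc => ?_
  have hcD : c ∈ D := h.cen_le b hb hb1 (mem_cen.2
    ((mem_centralizer_iff.1 hc) b ⟨b, hbX, rfl⟩).symm)
  exact ⟨⟨c, hcD⟩, hC _ fun x hx =>
    Subtype.ext ((mem_centralizer_iff.1 hc) x ⟨x, hx, rfl⟩).symm, rfl⟩

/-- Neither kernel is a four-group. -/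
theorem Conf.rank_generic (h : Conf D π π') (hA : ¬ Four π.ker) (hB : ¬ Four π'.ker) :
    Cfsg.SectionalPRankLE 2 4 S := by
  haveI : Fact (Nat.Prime 2) := ⟨Nat.prime_two⟩
  obtain ⟨y₀, hy₀, hy1₀⟩ := (Subgroup.bot_or_exists_ne_one π'.ker).resolve_left h.neB
  obtain ⟨j, hj⟩ : ∃ j, orderOf y₀ = 2 ^ (j + 1) := by
    obtain ⟨k, hk⟩ := IsPGroup.iff_orderOf.1 (h.pg.to_subgroup D) y₀
    rcases k with _ | k
    · exact absurd (orderOf_eq_one_iff.1 (hk.trans (pow_zero 2))) hy1₀
    · exact ⟨k, hk⟩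
  set y := y₀ ^ 2 ^ j with hy
  have hyB : π' y = 1 := by rw [hy, map_pow, MonoidHom.mem_ker.1 hy₀, one_pow]
  have hyo : orderOf y = 2 := orderOf_eq_prime (by
    rw [hy, ← pow_mul, ← pow_succ, ← hj, pow_orderOf_eq_one]) (by
    rw [hy]
    refine pow_ne_one_of_lt_orderOf (by positivity) ?_
    rw [hj, pow_succ]
    have : 0 < 2 ^ j := by positivity
    omega)
  have hy1 : y ≠ 1 := fun e => by rw [e, orderOf_one] at hyo; omega
  have hy2 : (y : S) * y = 1 := by
    rw [← Subgroup.coe_mul, ← pow_two, ← hyo, pow_orderOf_eq_one, Subgroup.coe_one]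
  have hEAimg : ∀ {E : Subgroup ↥D} (f : ↥D →* Equiv.Perm (Fin 4)), IsEA E → IsEA (E.map f) := by
    rintro E f hE _ ⟨a, ha, rfl⟩
    rw [← map_mul, hE a ha, map_one]
  have small : ∀ {K : Subgroup ↥D}, Nat.card K ≤ 4 → ¬ Four K → ∀ {E : Subgroup ↥D}, IsEA E →
      Nat.card ↥(E ⊓ K) ≤ 2 := by
    intro K hK hnot E hE
    by_contra hgt
    obtain ⟨k, hk⟩ := IsPGroup.iff_card.1 ((h.pg.to_subgroup D).to_subgroup (E ⊓ K))
    have hk2 : 2 ≤ k := by
      by_contra hk2
      interval_cases k <;> omega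
    have h4 : 4 ≤ Nat.card ↥(E ⊓ K) := by
      rw [hk]
      calc (4 : ℕ) = 2 ^ 2 := by norm_num
        _ ≤ 2 ^ k := Nat.pow_le_pow_right (by norm_num) hk2
    have heq : E ⊓ K = K := Subgroup.eq_of_le_of_card_ge inf_le_right (hK.trans h4)
    exact hnot ⟨le_antisymm hK (heq ▸ h4), (heq ▸ hE.mono inf_le_left : IsEA K)⟩
  by_cases hno : ∀ X : Subgroup S, IsEA X → X ≤ cen (y : S) → (y : S) ∈ X → Nat.card X ≤ 4
  · exact rank_of_noEight h.pg hy2 (by simpa using hy1) hno
  push Not at hno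
  obtain ⟨X₀, hX₀, hX₀c, hyX₀, hX₀4⟩ := hno
  have hX₀D : X₀ ≤ D := hX₀c.trans (h.cen_le y hyB hy1)
  set X : Subgroup ↥D := X₀.subgroupOf D with hXdef
  have hX : IsEA X := fun a ha => Subtype.ext (hX₀ _ ha)
  have hXc : Nat.card X = Nat.card X₀ := Nat.card_congr (subgroupOfEquivOfLe hX₀D).toEquiv
  have bound : ∀ E : Subgroup ↥D, IsEA E → Nat.card E ≤ 8 := fun E hE => by
    rw [card_inf_ker_mul π E]
    exact Nat.mul_le_mul (small h.cardA hA hE) (card_EA_perm_le _ (hEAimg π hE))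
  have hX8 : Nat.card X = 8 := by
    obtain ⟨k, hk⟩ := IsPGroup.iff_card.1 ((h.pg.to_subgroup D).to_subgroup X)
    have h1 := bound X hX
    rw [← hXc, hk] at hX₀4
    rw [hk] at h1 ⊢
    have : k = 3 := by
      rcases Nat.lt_trichotomy k 3 with hk3 | hk3 | hk3
      · have : 2 ^ k ≤ 2 ^ 2 := Nat.pow_le_pow_right (by norm_num) (by omega)
        omega
      · exact hk3
      · have : 2 ^ 4 ≤ 2 ^ k := Nat.pow_le_pow_right (by norm_num) hk3
        omega
    rw [this]
    norm_num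
  have himg : ∀ f : ↥D →* Equiv.Perm (Fin 4), Nat.card ↥(X ⊓ f.ker) ≤ 2 →
      Nat.card (X.map f) = 4 := by
    intro f hf
    have h1 := card_inf_ker_mul f X
    have h2 := card_EA_perm_le _ (hEAimg f hX)
    rw [hX8] at h1
    have h3 : Nat.card ↥(X ⊓ f.ker) * Nat.card (X.map f) ≤ 2 * Nat.card (X.map f) :=
      Nat.mul_le_mul_right _ hf
    omega
  refine h.rank_of_local hX hX8 (b := y) hyX₀ hyB hy1 fun d hd => ?_
  have hsq : ∀ e : ↥D, (∀ x ∈ X, e * x = x * e) → e * e = 1 := by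
    intro e he
    have key : ∀ f : ↥D →* Equiv.Perm (Fin 4), Nat.card ↥(X ⊓ f.ker) ≤ 2 → f (e * e) = 1 := by
      intro f hf
      rw [map_mul]
      refine hEAimg f hX _ (mem_EA_perm _ (hEAimg f hX) (himg f hf) ?_)
      rintro _ ⟨x, hx, rfl⟩
      rw [← map_mul, he x hx, map_mul]
    exact h.sep _ (key π (small h.cardA hA hX)) (key π' (small h.cardB hB hX))
  set C : Subgroup ↥D := centralizer (X : Set ↥D)
  have hC : IsEA C := fun e he => hsq e fun x hx => (mem_centralizer_iff.1 he x hx).symm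
  have hXC : X ≤ C := fun a ha => mem_centralizer_iff.2 fun x hx => hX.comm hx ha
  have : X = C := Subgroup.eq_of_le_of_card_ge hXC ((bound C hC).trans hX8.ge)
  rw [this]
  exact mem_centralizer_iff.2 fun x hx => (hd x hx).symm

/-- One kernel a four-group and the other of order two. -/
theorem Conf.rank_prod (h : Conf D π π')
    (hc : (Four π.ker ∧ Nat.card π'.ker = 2) ∨ (Nat.card π.ker = 2 ∧ Four π'.ker)) :
    Cfsg.SectionalPRankLE 2 4 S := by
  have hA2 : IsEA π.ker := hc.elim (fun e => e.1.2) (fun e => EA_of_card_two _ e.1)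
  have hB2 : IsEA π'.ker := hc.elim (fun e => EA_of_card_two _ e.2) (fun e => e.2.2)
  have hcard : Nat.card π.ker * Nat.card π'.ker = 8 := by
    rcases hc with ⟨⟨e1, -⟩, e2⟩ | ⟨e1, e2, -⟩ <;> rw [e1, e2]
  have hmem : ∀ {d : ↥D}, d ∈ π.ker ⊔ π'.ker ↔ InAB π π' d := fun {d} => by
    rw [Subgroup.mem_sup_of_normal_right]
    constructor
    · rintro ⟨a, ha, b, hb, rfl⟩; exact ⟨a, b, ha, hb, rfl⟩
    · rintro ⟨a, b, ha, hb, rfl⟩; exact ⟨a, ha, b, hb, rfl⟩
  have hEA : IsEA (π.ker ⊔ π'.ker) := by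
    intro d hd
    obtain ⟨a, b, ha, hb, rfl⟩ := hmem.1 hd
    rw [Commute.mul_mul_mul_comm (h.comm ha hb).symm a b, hA2 a ha, hB2 b hb, one_mul]
  have h8 : Nat.card ↥(π.ker ⊔ π'.ker) = 8 := by
    rw [← hcard, ← Nat.card_prod]
    refine (Nat.card_eq_of_bijective
      (fun p : π.ker × π'.ker => (⟨p.1.1 * p.2.1, hmem.2 ⟨_, _, p.1.2, p.2.2, rfl⟩⟩ :
        ↥(π.ker ⊔ π'.ker))) ⟨fun p q hpq => ?_, fun d => ?_⟩).symm
    · obtain ⟨e1, e2⟩ := h.unique p.1.2 q.1.2 p.2.2 q.2.2 (congrArg Subtype.val hpq)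
      exact Prod.ext (Subtype.ext e1) (Subtype.ext e2)
    · obtain ⟨a, b, ha, hb, e⟩ := hmem.1 d.2
      exact ⟨(⟨a, ha⟩, ⟨b, hb⟩), Subtype.ext e.symm⟩
  obtain ⟨b, hb, hb1⟩ := (Subgroup.bot_or_exists_ne_one π'.ker).resolve_left h.neB
  refine h.rank_of_local hEA h8 (Subgroup.mem_sup_right hb) hb hb1 fun d hd => hmem.2 ?_
  rcases hc with ⟨⟨e1, -⟩, -⟩ | ⟨-, e2, -⟩
  · exact h.centralA e1 fun a ha => hd a (Subgroup.mem_sup_left ha)
  · exact h.centralB e2 fun b hb => hd b (Subgroup.mem_sup_right hb)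

/-- Kernels of order four and an element outside their product. -/
theorem Conf.rank_twisted (h : Conf D π π') (hA : Nat.card π.ker = 4) (hB : Nat.card π'.ker = 4)
    {x : ↥D} (hx : ¬ InAB π π' x) : Cfsg.SectionalPRankLE 2 4 S := by
  haveI : Fact (Nat.Prime 2) := ⟨Nat.prime_two⟩
  have hD := h.pg.to_subgroup D
  have hAB : ∀ {a b d : ↥D}, π a = 1 → π' b = 1 → InAB π π' d → InAB π π' (a * b * d) := by
    rintro a b d ha hb ⟨a', b', ha', hb', rfl⟩
    refine ⟨a * a', b * b', by rw [map_mul, ha, ha', one_mul], by rw [map_mul, hb, hb', one_mul], ?_⟩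
    rw [mul_assoc, ← mul_assoc b a' b', ← h.comm ha' hb]
    group
  have h8 : ∀ q : ↥D, ∀ f : ↥D →* Equiv.Perm (Fin 4), f q 0 = 0 → f q * f q = 1 := by
    intro q f hf
    refine perm_fix_sq _ hf (orderOf_dvd_iff_pow_eq_one.1 ?_)
    obtain ⟨k, hk⟩ := hD q
    obtain ⟨i, -, hi⟩ := (Nat.dvd_prime_pow Nat.prime_two).1
      (orderOf_dvd_of_pow_eq_one (by rw [← map_pow, hk, map_one]) : orderOf (f q) ∣ 2 ^ k)
    have h24 := orderOf_dvd_natCard (f q)
    rw [hi, Nat.card_eq_fintype_card, Fintype.card_perm, Fintype.card_fin] at h24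
    rw [hi]
    have : i ≤ 3 := by
      by_contra hi4
      have h16 : 2 ^ 4 ∣ (4 : ℕ).factorial := (pow_dvd_pow 2 (by omega)).trans h24
      revert h16
      decide
    calc 2 ^ i ∣ 2 ^ 3 := pow_dvd_pow 2 this
      _ = 8 := by norm_num
  obtain ⟨b, hb, hbi⟩ := h.transB hB (π x 0)
  obtain ⟨a, ha, hai⟩ := h.transA hA (π' (b⁻¹ * x) 0)
  set r := a⁻¹ * (b⁻¹ * x) with hr
  have hrA : π r 0 = 0 := by
    rw [hr, map_mul, map_inv, ha, inv_one, one_mul, map_mul, Equiv.Perm.mul_apply, ← hbi, map_inv]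
    exact Equiv.symm_apply_apply _ _
  have hrB : π' r 0 = 0 := by
    rw [hr, map_mul, Equiv.Perm.mul_apply, ← hai, map_inv]
    exact Equiv.symm_apply_apply _ _
  have hr2 : r * r = 1 := h.sep _ (by rw [map_mul]; exact h8 r π hrA) (by rw [map_mul]; exact h8 r π' hrB)
  have hrn : ¬ InAB π π' r := by
    intro hin
    refine hx ?_
    have := hAB ha hb hin
    rwa [hr, h.comm ha hb, show b * a * (a⁻¹ * (b⁻¹ * x)) = x by group] at this
  -- the fixed points of `r` on a kernel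
  have fixed : ∀ (K : Subgroup ↥D), K.Normal → Nat.card K = 4 →
      ((∀ k ∈ K, r * k = k * r) → False) →
      ∃ k ∈ K, k ≠ 1 ∧ r * k = k * r ∧ k * k = 1 ∧ ∀ l ∈ K, r * l = l * r → l = 1 ∨ l = k := by
    intro K hKn hK4 hnc
    obtain ⟨k, hk, hk1, hkr⟩ := exists_fixed_mod hD (A := zpowers r) (N := ⊥) (M := K) bot_le
      (fun e => by rw [← e, Subgroup.card_bot] at hK4; omega)
      (by rw [Subgroup.normalizer_eq_top]; exact le_top)
      (by rw [Subgroup.normalizer_eq_top]; exact le_top)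
      (by rw [Subgroup.normalizer_eq_top]; exact le_top)
    rw [mem_bot] at hk1
    have hkr' : r * k = k * r :=
      commutatorElement_eq_one_iff_mul_comm.1 (mem_bot.1 (hkr r (mem_zpowers r)))
    set F := K ⊓ cen r with hF
    have hkF : k ∈ F := ⟨hk, mem_cen.2 hkr'.symm⟩
    have hlt : F < K := lt_of_le_of_ne inf_le_left fun e => hnc fun l hl =>
      (mem_cen.1 (Subgroup.mem_inf.1 (e.ge hl)).2).symm
    have hF2 : Nat.card F = 2 := by
      have h1 := two_mul_le_of_lt hlt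
      have h2 : 1 < Nat.card F :=
        (Subgroup.one_lt_card_iff_ne_bot F).2 fun e => hk1 (mem_bot.1 (e ▸ hkF))
      omega
    refine ⟨k, hk, hk1, hkr', EA_of_card_two F hF2 k hkF, fun l hl hlr => ?_⟩
    by_contra hne
    push Not at hne
    have hsub : ({1, k, l} : Set ↥D) ⊆ (F : Set ↥D) := by
      rintro z (rfl | rfl | rfl)
      · exact F.one_mem
      · exact hkF
      · exact ⟨hl, mem_cen.2 hlr.symm⟩
    have := Set.ncard_le_ncard hsub (Set.toFinite _)
    rw [Set.ncard_eq_three.2 ⟨1, k, l, Ne.symm hk1, Ne.symm hne.1, Ne.symm hne.2, rfl⟩,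
      ← Nat.card_coe_set_eq] at this
    exact absurd (this.trans hF2.le) (by norm_num)
  obtain ⟨a₀, ha₀, ha₁, ha₀r, ha₀2, haU⟩ := fixed π.ker inferInstance hA fun hc => hrn
    (h.centralA hA fun k hk => hc k hk)
  obtain ⟨b₀, hb₀, hb₁, hb₀r, hb₀2, hbU⟩ := fixed π'.ker inferInstance hB fun hc => hrn
    (h.centralB hB fun k hk => hc k hk)
  set V : Subgroup ↥D := zpowers a₀ ⊔ zpowers b₀ with hV
  have hVa : IsEA (zpowers a₀) := by
    intro z hz
    obtain ⟨n, rfl⟩ := mem_zpowers_iff.1 hz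
    rw [← (Commute.refl a₀).mul_zpow, ha₀2, one_zpow]
  have hVEA : IsEA V := hVa.sup_zpowers hb₀2
    ((zpowers_le.2 (mem_cen.2 (h.comm ha₀ hb₀))))
  have hVr : V ≤ cen r := sup_le (zpowers_le.2 (mem_cen.2 ha₀r.symm))
    (zpowers_le.2 (mem_cen.2 hb₀r.symm))
  have hVin : ∀ v ∈ V, InAB π π' v := by
    intro v hv
    have hn : zpowers b₀ ≤ normalizer (zpowers a₀ : Set ↥D) := by
      refine (zpowers_le.2 (mem_centralizer_iff.2 fun w hw => ?_)).trans (centralizer_le_normalizer _)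
      obtain ⟨n, rfl⟩ := mem_zpowers_iff.1 hw
      exact Commute.zpow_left (h.comm ha₀ hb₀) n
    rw [hV, ← SetLike.mem_coe, coe_mul_of_right_le_normalizer_left _ _ hn] at hv
    obtain ⟨p, hp, q, hq, rfl⟩ := Set.mem_mul.1 hv
    exact ⟨p, q, zpowers_le.2 ha₀ hp, zpowers_le.2 hb₀ hq, rfl⟩
  set X := V ⊔ zpowers r with hXdef
  have hXEA : IsEA X := hVEA.sup_zpowers hr2 hVr
  have hb₀X : b₀ ∈ X := Subgroup.mem_sup_left (Subgroup.mem_sup_right (mem_zpowers b₀))
  have ha₀X : a₀ ∈ X := Subgroup.mem_sup_left (Subgroup.mem_sup_left (mem_zpowers a₀))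
  have hrX : r ∈ X := Subgroup.mem_sup_right (mem_zpowers r)
  -- `D` is twice the product
  have htwo : ∀ d : ↥D, InAB π π' d ∨ InAB π π' (r * d) := by
    intro d
    by_contra hd
    push Not at hd
    set M : Subgroup (Equiv.Perm (Fin 4)) := π'.ker.map π with hM
    have hM4 : Nat.card M = 4 := by
      refine ((Nat.card_congr (Equiv.ofBijective
        (fun b : ↥π'.ker => (⟨π b, mem_map_of_mem π b.2⟩ : ↥(π'.ker.map π))) ⟨?_, ?_⟩)).symm).trans hB
      · intro p q hpq
        have hpq' : π p = π q := congrArg Subtype.val hpq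
        refine Subtype.ext (inv_mul_eq_one.1 (h.sep _ ?_ ?_))
        · rw [map_mul, map_inv, hpq', inv_mul_cancel]
        · rw [map_mul, map_inv, MonoidHom.mem_ker.1 p.2, MonoidHom.mem_ker.1 q.2, inv_one, one_mul]
      · rintro ⟨_, b, hb, rfl⟩; exact ⟨⟨b, hb⟩, rfl⟩
    have hMle : M ≤ π.range := Subgroup.map_le_range _ _
    have hout : ∀ q : ↥D, π q ∈ M → InAB π π' q := by
      rintro q ⟨b, hb, hbq⟩
      refine ⟨q * b⁻¹, b, ?_, hb, by group⟩
      rw [map_mul, map_inv, hbq, mul_inv_cancel]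
    have hlt : M < π.range :=
      lt_of_le_of_ne hMle fun e => hrn (hout r (e.ge ⟨r, rfl⟩))
    have h2 := two_mul_le_of_lt hlt
    obtain ⟨i, hi⟩ := IsPGroup.iff_card.1 (hD.of_surjective π.rangeRestrict π.rangeRestrict_surjective)
    have h24 := Subgroup.card_subgroup_dvd_card π.range
    rw [Nat.card_eq_fintype_card (α := Equiv.Perm (Fin 4)), Fintype.card_perm, Fintype.card_fin] at h24
    have hi3 : i ≤ 3 := by
      by_contra hi4
      rw [hi] at h24
      have h16 : 2 ^ 4 ∣ (4 : ℕ).factorial := (pow_dvd_pow 2 (by omega)).trans h24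
      revert h16
      decide
    have h8' : Nat.card π.range = 8 := by
      have : 2 ^ i ≤ 2 ^ 3 := Nat.pow_le_pow_right (by norm_num) hi3
      omega
    have hidx : (M.subgroupOf π.range).index = 2 := by
      have := Subgroup.card_mul_index (M.subgroupOf π.range)
      rw [Nat.card_congr (subgroupOfEquivOfLe hMle).toEquiv, hM4, h8'] at this
      omega
    have := (Subgroup.mul_mem_iff_of_index_two hidx (a := ⟨π r, r, rfl⟩) (b := ⟨π d, d, rfl⟩)).2
      ⟨fun e => absurd (hout r e) hrn, fun e => absurd (hout d e) hd.1⟩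
    exact hd.2 (hout _ (by rw [map_mul]; exact this))
  have hXC : ∀ d : ↥D, (∀ z ∈ X, d * z = z * d) → d ∈ X := by
    intro d hd
    have inV : ∀ e : ↥D, InAB π π' e → r * e = e * r → e ∈ X := by
      rintro e ⟨p, q, hp, hq, rfl⟩ her
      have hp' : π (r * p * r⁻¹) = 1 := by rw [map_mul, map_mul, hp, mul_one, map_inv, mul_inv_cancel]
      have hq' : π' (r * q * r⁻¹) = 1 := by
        rw [map_mul, map_mul, hq, mul_one, map_inv, mul_inv_cancel]
      obtain ⟨e1, e2⟩ := h.unique hp' hp hq' hq (by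
        rw [show r * p * r⁻¹ * (r * q * r⁻¹) = r * (p * q) * r⁻¹ by group, her, mul_inv_cancel_right])
      have e1' : r * p = p * r := mul_inv_eq_iff_eq_mul.1 e1
      have e2' : r * q = q * r := mul_inv_eq_iff_eq_mul.1 e2
      refine X.mul_mem ?_ ?_
      · rcases haU p hp e1' with rfl | rfl
        · exact X.one_mem
        · exact ha₀X
      · rcases hbU q hq e2' with rfl | rfl
        · exact X.one_mem
        · exact hb₀X
    rcases htwo d with hin | hin
    · exact inV d hin (hd r hrX).symm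
    · have hrd := inV _ hin (by rw [mul_assoc r d r, hd r hrX])
      have := X.mul_mem hrX hrd
      rwa [← mul_assoc, hr2, one_mul] at this
  have hX8 : Nat.card X = 8 := by
    have hge : 8 ≤ Nat.card X := by
      have e1 : zpowers a₀ < V := lt_of_le_of_ne le_sup_left fun e => hb₁ (h.sep _ (by
        have := zpowers_le.2 ha₀ (e.ge (Subgroup.mem_sup_right (mem_zpowers b₀)) : b₀ ∈ zpowers a₀)
        exact this) hb₀)
      have e2 : V < X := lt_of_le_of_ne le_sup_left fun e => hrn (hVin r (e.ge hrX))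
      have c0 : 2 ≤ Nat.card (zpowers a₀) :=
        (Subgroup.one_lt_card_iff_ne_bot _).2 fun e => ha₁ (zpowers_eq_bot.1 e)
      have c1 := two_mul_le_of_lt e1
      have c2 := two_mul_le_of_lt e2
      omega
    have hle : Nat.card X ≤ 8 := by
      classical
      have hsub : (X : Set ↥D) ⊆ (fun t : Bool × Bool × Bool =>
          (if t.1 then a₀ else 1) * (if t.2.1 then b₀ else 1) * (if t.2.2 then r else 1)) ''
            Set.univ := by
        intro d hd
        have inV : ∀ e : ↥D, InAB π π' e → r * e = e * r →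
            ∃ s t : Bool, e = (if s then a₀ else 1) * (if t then b₀ else 1) := by
          rintro e ⟨p, q, hp, hq, rfl⟩ her
          have hp' : π (r * p * r⁻¹) = 1 := by
            rw [map_mul, map_mul, hp, mul_one, map_inv, mul_inv_cancel]
          have hq' : π' (r * q * r⁻¹) = 1 := by
            rw [map_mul, map_mul, hq, mul_one, map_inv, mul_inv_cancel]
          obtain ⟨e1, e2⟩ := h.unique hp' hp hq' hq (by
            rw [show r * p * r⁻¹ * (r * q * r⁻¹) = r * (p * q) * r⁻¹ by group, her,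
              mul_inv_cancel_right])
          obtain ⟨s, hs⟩ : ∃ s : Bool, p = if s then a₀ else 1 := by
            rcases haU p hp (mul_inv_eq_iff_eq_mul.1 e1) with e | e
            · exact ⟨false, by simp [e]⟩
            · exact ⟨true, by simp [e]⟩
          obtain ⟨t, ht⟩ : ∃ t : Bool, q = if t then b₀ else 1 := by
            rcases hbU q hq (mul_inv_eq_iff_eq_mul.1 e2) with e | e
            · exact ⟨false, by simp [e]⟩
            · exact ⟨true, by simp [e]⟩
          exact ⟨s, t, by rw [hs, ht]⟩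
        rcases htwo d with hin | hin
        · obtain ⟨s, t, e⟩ := inV d hin (hXEA.comm hrX hd)
          exact ⟨(s, t, false), trivial, by simp [e]⟩
        · obtain ⟨s, t, e⟩ := inV _ hin (hXEA.comm hrX (X.mul_mem hrX hd))
          refine ⟨(s, t, true), trivial, ?_⟩
          show (if s then a₀ else 1) * (if t then b₀ else 1) * r = d
          rw [← e, hXEA.comm hrX hd, mul_assoc, hr2, mul_one]
      calc Nat.card X = (X : Set ↥D).ncard := Nat.card_coe_set_eq _
        _ ≤ _ := Set.ncard_le_ncard hsub (Set.toFinite _)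
        _ ≤ (Set.univ : Set (Bool × Bool × Bool)).ncard := Set.ncard_image_le (Set.toFinite _)
        _ = 8 := by rw [Set.ncard_univ, Nat.card_eq_fintype_card]; rfl
    omega
  exact h.rank_of_local hXEA hX8 hb₀X hb₀ hb₁ hXC

end Cfsg.Agent.Lib.FixityFour61
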