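import Cfsg.Agent.Lib.FixityFour61.FourAbelian
import Cfsg.Agent.Lib.FixityFour61.Common
import Cfsg.Agent.S1911

/-!
# Fixity four: some involution fixes four points

helper61, for S3365.
-/

set_option autoImplicit false

namespace Cfsg.Agent.Lib.FixityFour61

open MulAction

section Actions

variable {G : Type*} [Group G] {Ω : Type*} [MulAction G Ω]

/-- The permutation of `Δ` given by an element of its stabiliser. -/
def setPerm (Δ : Set Ω) : ↥(setStab G Δ) →* Equiv.Perm ↥Δ where
  toFun g :=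
    { toFun := fun x => ⟨(g : G) • x.1, (g.2 x.1).2 x.2⟩
      invFun := fun x => ⟨(g : G)⁻¹ • x.1, ((setStab G Δ).inv_mem g.2 x.1).2 x.2⟩
      left_inv := fun x => Subtype.ext (inv_smul_smul (g : G) x.1)
      right_inv := fun x => Subtype.ext (smul_inv_smul (g : G) x.1) }
  map_one' := Equiv.ext fun x => Subtype.ext (one_smul G x.1)
  map_mul' a b := Equiv.ext fun x => Subtype.ext (mul_smul (a : G) (b : G) x.1)

/-- Action on a set of four points. -/
def four {D : Subgroup G} {Δ : Set Ω} (hle : D ≤ setStab G Δ) (e : ↥Δ ≃ Fin 4) :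
    ↥D →* Equiv.Perm (Fin 4) :=
  (e.permCongrHom.toMonoidHom.comp (setPerm Δ)).comp (Subgroup.inclusion hle)

theorem four_apply {D : Subgroup G} {Δ : Set Ω} (hle : D ≤ setStab G Δ) (e : ↥Δ ≃ Fin 4) (d : ↥D)
    (i : Fin 4) : ((e.symm (four hle e d i) : ↥Δ) : Ω) = (d : G) • ((e.symm i : ↥Δ) : Ω) := by
  show ((e.symm (e ((setPerm Δ (Subgroup.inclusion hle d)) (e.symm i))) : ↥Δ) : Ω) = _
  rw [Equiv.symm_apply_apply]
  rfl

theorem four_eq_one {D : Subgroup G} {Δ : Set Ω} (hle : D ≤ setStab G Δ) (e : ↥Δ ≃ Fin 4) (d : ↥D) :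
    four hle e d = 1 ↔ ∀ x ∈ Δ, (d : G) • x = x := by
  constructor
  · intro h x hx
    have := four_apply hle e d (e ⟨x, hx⟩)
    rw [h, Equiv.Perm.one_apply, Equiv.symm_apply_apply] at this
    exact this.symm
  · intro h
    refine Equiv.ext fun i => e.symm.injective (Subtype.ext ?_)
    rw [four_apply, Equiv.Perm.one_apply]
    exact h _ (e.symm i).2

end Actions

section TwoGroup

variable {X : Type*} [Group X] [Finite X] {Ω : Type*} [MulAction X Ω] [Finite Ω]

/-- The kernel of one action of `D` is semiregular on the other set. -/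
theorem kernel_bound {F F' : Set Ω} (hfree : ∀ x : X, x ≠ 1 → Nat.card (fixedBy Ω x) ≤ 4)
    (hF : F.ncard = 4) (hF' : F'.ncard = 4) (hne : F' ≠ F) {D : Subgroup X}
    (hle : D ≤ setStab X F) (hle' : D ≤ setStab X F') (e : ↥F ≃ Fin 4) (e' : ↥F' ≃ Fin 4) :
    Nat.card (four hle e).ker ≤ 4 ∧ (Nat.card (four hle e).ker = 4 →
      ∀ i, ∃ a, four hle e a = 1 ∧ four hle' e' a 0 = i) := by
  obtain ⟨p, hp, hpF⟩ : ∃ p ∈ F', p ∉ F := by
    by_contra hall
    push Not at hall
    exact hne (Set.eq_of_subset_of_ncard_le hall (by omega) (Set.toFinite _))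
  have hmap : ∀ (q : Ω), q ∈ F' → q ∉ F → ∀ a : (four hle e).ker,
      ((a : ↥D) : X) • q ∈ F' \ F := fun q hq hqF a =>
    ⟨(hle' a.1.2 q).2 hq, fun hh => hqF ((hle a.1.2 q).1 hh)⟩
  have hinj : ∀ q : Ω, q ∈ F' → q ∉ F →
      ∀ a b : (four hle e).ker, ((a : ↥D) : X) • q = ((b : ↥D) : X) • q → a = b := by
    intro q hq hqF a b hab
    by_contra hne'
    have hd1 : ((a : ↥D) : X)⁻¹ * ((b : ↥D) : X) ≠ 1 := fun h =>
      hne' (Subtype.ext (Subtype.ext (inv_mul_eq_one.1 h)))
    have hfix : ∀ x ∈ insert q F, (((a : ↥D) : X)⁻¹ * ((b : ↥D) : X)) • x = x := by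
      intro x hx
      rw [mul_smul]
      rcases hx with rfl | hx
      · rw [← hab, inv_smul_smul]
      · rw [(four_eq_one hle e _).1 b.2 x hx, inv_smul_eq_iff, (four_eq_one hle e _).1 a.2 x hx]
    have hsub5 : insert q F ⊆ fixedBy Ω (((a : ↥D) : X)⁻¹ * ((b : ↥D) : X)) := fun x hx => hfix x hx
    have h5 := Set.ncard_le_ncard hsub5 (Set.toFinite _)
    rw [Set.ncard_insert_of_notMem hqF (Set.toFinite _), hF, ← Nat.card_coe_set_eq] at h5
    have := hfree _ hd1
    omega
  have hd4 : (F' \ F).ncard ≤ 4 := hF' ▸ Set.ncard_le_ncard Set.sdiff_subset (Set.toFinite _)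
  have hcard : Nat.card (four hle e).ker ≤ (F' \ F).ncard := by
    rw [← Nat.card_coe_set_eq]
    exact Nat.card_le_card_of_injective (fun a => (⟨_, hmap p hp hpF a⟩ : ↥(F' \ F)))
      fun a b hab => hinj p hp hpF a b (congrArg Subtype.val hab)
  refine ⟨hcard.trans hd4, fun h4 i => ?_⟩
  have hsub : F' \ F = F' := Set.eq_of_subset_of_ncard_le Set.sdiff_subset (by omega) (Set.toFinite _)
  set q : Ω := ((e'.symm 0 : ↥F') : Ω) with hq
  have hqF' : q ∈ F' := (e'.symm 0).2
  have hqF : q ∉ F := (hsub.ge hqF').2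
  let g : (four hle e).ker → ↥F' := fun a => ⟨_, (hmap q hqF' hqF a).1⟩
  have hg : Function.Injective g := fun a b hab => hinj q hqF' hqF a b (congrArg Subtype.val hab)
  have hbij := hg.bijective_of_nat_card_le (by rw [h4, Nat.card_coe_set_eq, hF'])
  obtain ⟨a, ha⟩ := hbij.2 (e'.symm i)
  refine ⟨a, a.2, e'.symm.injective (Subtype.ext ?_)⟩
  rw [four_apply]
  exact congrArg Subtype.val ha

theorem Conf.rank {S : Type*} [Group S] [Finite S] {D : Subgroup S}
    {π π' : ↥D →* Equiv.Perm (Fin 4)} (h : Conf D π π') : Cfsg.SectionalPRankLE 2 4 S := by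
  have hA := h.card_two_or_four h.neA h.cardA
  have hB := h.card_two_or_four h.neB h.cardB
  by_cases hboth : Nat.card π.ker = 4 ∧ Nat.card π'.ker = 4
  · obtain ⟨hA4, hB4⟩ := hboth
    by_cases hx : ∀ x : ↥D, InAB π π' x
    · have hcomm : ∀ a ∈ D, ∀ b ∈ D, a * b = b * a := by
        intro a ha b hb
        obtain ⟨p, q, hp, hq, e1⟩ := hx ⟨a, ha⟩
        obtain ⟨p', q', hp', hq', e2⟩ := hx ⟨b, hb⟩
        have : (⟨a, ha⟩ : ↥D) * ⟨b, hb⟩ = ⟨b, hb⟩ * ⟨a, ha⟩ := by
          rw [e1, e2, Commute.mul_mul_mul_comm (h.comm hp' hq).symm p q',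
            Commute.mul_mul_mul_comm (h.comm hp hq').symm p' q,
            comm_of_card_four π.ker hA4 hp hp', comm_of_card_four π'.ker hB4 hq hq']
        exact congrArg Subtype.val this
      have hD : Nat.card D = 16 := by
        have := Nat.card_eq_of_bijective (fun p : π.ker × π'.ker => (p.1.1 * p.2.1 : ↥D))
          ⟨fun p q hpq => by
            obtain ⟨e1, e2⟩ := h.unique p.1.2 q.1.2 p.2.2 q.2.2 hpq
            exact Prod.ext (Subtype.ext e1) (Subtype.ext e2),
          fun d => by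
            obtain ⟨a, b, ha, hb, e⟩ := hx d
            exact ⟨(⟨a, ha⟩, ⟨b, hb⟩), e.symm⟩⟩
        rw [← this, Nat.card_prod, hA4, hB4]
      refine AbPair.rank (D := D) (B := π'.ker.map D.subtype)
        ⟨h.pg, hcomm, hD, Subgroup.map_subtype_le _, by rw [card_map_subtype, hB4], ?_⟩
      rintro _ ⟨b, hb, rfl⟩ hb1
      refine le_antisymm (h.cen_le b hb fun e => hb1 (by rw [e]; rfl)) fun d hd => ?_
      exact mem_cen.2 (hcomm d hd _ b.2)
    · push Not at hx
      obtain ⟨x, hx⟩ := hx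
      exact h.rank_twisted hA4 hB4 hx
  by_cases hFA : Four π.ker
  · exact h.rank_prod (Or.inl ⟨hFA, hB.resolve_right fun e => hboth ⟨hFA.1, e⟩⟩)
  by_cases hFB : Four π'.ker
  · exact h.rank_prod (Or.inr ⟨hA.resolve_right fun e => hboth ⟨e, hFB.1⟩, hFB⟩)
  exact h.rank_generic hFA hFB

/-- A two-group, two sets of four points, each the fixed set of an element fixing the other. -/
theorem rank_of_two_sets (hX : IsPGroup 2 X) (hfree : ∀ x : X, x ≠ 1 → Nat.card (fixedBy Ω x) ≤ 4)
    {F F' : Set Ω} (hF : F.ncard = 4) (hF' : F'.ncard = 4) (hne : F' ≠ F)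
    (hle : setStab X F' ≤ setStab X F) {u y : X} (hu : u ∈ setStab X F') (hu1 : u ≠ 1)
    (huF : ∀ p ∈ F, u • p = p) (hy1 : y ≠ 1) (hyF : ∀ p ∈ F', y • p = p) :
    Cfsg.SectionalPRankLE 2 4 X := by
  have hy : y ∈ setStab X F' := setStab_of_subset fun p hp => by rw [hyF p hp]; exact hp
  obtain ⟨e⟩ : Nonempty (↥F ≃ Fin 4) := ⟨(Finite.equivFin ↥F).trans
    (finCongr (by rw [Nat.card_coe_set_eq, hF]))⟩
  obtain ⟨e'⟩ : Nonempty (↥F' ≃ Fin 4) := ⟨(Finite.equivFin ↥F').trans
    (finCongr (by rw [Nat.card_coe_set_eq, hF']))⟩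
  set π := four hle e
  set π' := four (le_refl (setStab X F')) e'
  obtain ⟨hA, htA⟩ := kernel_bound hfree hF hF' hne hle (le_refl _) e e'
  obtain ⟨hB, htB⟩ := kernel_bound hfree hF' hF (Ne.symm hne) (le_refl _) hle e' e
  refine Conf.rank (D := setStab X F') (π := π) (π' := π')
    ⟨hX, fun d h1 h2 => ?_, hA, hB, htA, htB, fun b hb hb1 => ?_, ?_, ?_⟩
  · by_contra hd
    have hd1 : (d : X) ≠ 1 := fun h => hd (Subtype.ext h)
    have hfix : F ∪ F' ⊆ fixedBy Ω (d : X) := by
      rintro p (hp | hp)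
      · exact (four_eq_one hle e d).1 h1 p hp
      · exact (four_eq_one (le_refl _) e' d).1 h2 p hp
    have hlt : F.ncard < (F ∪ F').ncard := Set.ncard_lt_ncard
      (Set.ssubset_iff_subset_ne.2 ⟨Set.subset_union_left, fun h => hne
        (Set.eq_of_subset_of_ncard_le (h ▸ Set.subset_union_right) (by omega) (Set.toFinite _))⟩)
      (Set.toFinite _)
    have h5 := Set.ncard_le_ncard hfix (Set.toFinite _)
    rw [← Nat.card_coe_set_eq (fixedBy Ω (d : X))] at h5
    have := hfree _ hd1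
    omega
  · have hfb := fix_eq (g := (b : X)) ((four_eq_one (le_refl _) e' b).1 hb)
      (hF' ▸ hfree _ fun h => hb1 (Subtype.ext h))
    intro c hc
    rw [← hfb]
    exact fix_setStab_of_comm (mem_cen.1 hc)
  · intro hbot
    have : (⟨u, hu⟩ : ↥(setStab X F')) ∈ π.ker := (four_eq_one hle e _).2 huF
    rw [hbot, Subgroup.mem_bot] at this
    exact hu1 (congrArg Subtype.val this)
  · intro hbot
    have : (⟨y, hy⟩ : ↥(setStab X F')) ∈ π'.ker := (four_eq_one (le_refl _) e' _).2 hyF
    rw [hbot, Subgroup.mem_bot] at this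
    exact hy1 (congrArg Subtype.val this)

end TwoGroup

variable {G : Type*} [Group G] [Finite G] [IsSimpleGroup G] {Ω : Type*} [MulAction G Ω] [Finite Ω]
  [FaithfulSMul G Ω] [IsPretransitive G Ω]

theorem stronglyEmbedded_of_top {H K : Subgroup G} (hK : K = ⊤)
    (h : Cfsg.IsStronglyEmbedded (H.subgroupOf K)) : Cfsg.IsStronglyEmbedded H := by
  subst hK
  obtain ⟨h1, h2, h3⟩ := h
  have hc : Nat.card (H.subgroupOf ⊤) = Nat.card H :=
    Nat.card_congr (Subgroup.subgroupOfEquivOfLe le_top).toEquiv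
  refine ⟨fun e => h1 ?_, by rwa [hc] at h2, fun g hg => ?_⟩
  · rw [e, Subgroup.subgroupOf_self]
  · have := h3 ⟨g, Subgroup.mem_top g⟩ hg
    have e : Nat.card ↥(H.subgroupOf ⊤ ⊓ (H.subgroupOf ⊤).map
        (MulAut.conj (⟨g, Subgroup.mem_top g⟩ : ↥(⊤ : Subgroup G))).toMonoidHom) =
        Nat.card ↥(H ⊓ H.map (MulAut.conj g).toMonoidHom) := by
      refine Nat.card_congr
        { toFun := fun x => ⟨x.1.1, x.2.1, ?_⟩
          invFun := fun x => ⟨⟨x.1, Subgroup.mem_top _⟩, x.2.1, ?_⟩
          left_inv := fun x => rfl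
          right_inv := fun x => rfl }
      · obtain ⟨v, hv, e⟩ := x.2.2
        exact ⟨v.1, hv, congrArg Subtype.val e⟩
      · obtain ⟨v, hv, e⟩ := x.2.2
        exact ⟨⟨v, Subgroup.mem_top v⟩, hv, Subtype.ext e⟩
    rwa [e] at this

/-- Some involution fixes four points. -/
theorem fourFix (hfix : ∀ g : G, g ≠ 1 → Nat.card (fixedBy Ω g) ≤ 4) {u₀ : G} (ho : orderOf u₀ = 2)
    (h4 : Nat.card (fixedBy Ω u₀) = 4) :
    (∃ H : Subgroup G, Cfsg.IsStronglyEmbedded H) ∨ Cfsg.SectionalPRankLE 2 4 G := by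
  haveI : Fact (Nat.Prime 2) := ⟨Nat.prime_two⟩
  obtain ⟨S, hS⟩ := (IsPGroup.of_card (p := 2) (n := 1)
    (by rw [Nat.card_zpowers, ho, pow_one]) : IsPGroup 2 (Subgroup.zpowers u₀)).exists_le_sylow
  set F : Set Ω := fixedBy Ω u₀ with hFdef
  have hF : F.ncard = 4 := by rw [← Nat.card_coe_set_eq]; exact h4
  have hu1 := ne_one_of_two ho
  have hfree : ∀ x : ↥(S : Subgroup G), x ≠ 1 → Nat.card (fixedBy Ω x) ≤ 4 := fun x hx =>
    hfix (x : G) fun h => hx (Subtype.ext h)
  set u : ↥(S : Subgroup G) := ⟨u₀, hS (Subgroup.mem_zpowers u₀)⟩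
  have hu1' : u ≠ 1 := fun h => hu1 (congrArg Subtype.val h)
  by_cases hL : setStab ↥(S : Subgroup G) F = ⊤
  · -- the Sylow subgroup stabilises `F`
    have hSF : (S : Subgroup G) ≤ setStab G F := fun s hs =>
      (hL.ge (Subgroup.mem_top (⟨s, hs⟩ : ↥(S : Subgroup G))) :
        (⟨s, hs⟩ : ↥(S : Subgroup G)) ∈ setStab ↥(S : Subgroup G) F)
    set W : Subgroup G := ptStab G F with hW
    have huW : u₀ ∈ W := fun x hx => hx
    have hfixW : ∀ v ∈ W, v ≠ 1 → fixedBy Ω v = F := fun v hv hv1 =>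
      fix_eq hv (hF ▸ hfix v hv1)
    have hnorm : ∀ n ∈ setStab G F, n ∈ Subgroup.normalizer (W : Set G) := by
      intro n hn
      rw [Subgroup.mem_normalizer_iff]
      intro w
      constructor
      · intro hw x hx
        rw [mul_smul, mul_smul, hw _ (((setStab G F).inv_mem hn x).2 hx), smul_inv_smul]
      · intro hw x hx
        have := hw _ ((hn x).2 hx)
        rw [mul_smul, mul_smul, inv_smul_smul] at this
        exact MulAction.injective n this
    have hnorm' : ∀ n ∈ Subgroup.normalizer (W : Set G), n ∈ setStab G F := by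
      intro n hn
      have hm := (Subgroup.mem_normalizer_iff.1 hn u₀).1 huW
      have h1 := hfixW _ hm fun h => hu1 (conj_eq_one_iff.1 h)
      intro x
      conv_lhs => rw [← h1]
      rw [fix_conj]
    have htight : Cfsg.IsTightlyEmbedded W := by
      refine ⟨even_iff_two_dvd.2 (ho ▸ Subgroup.orderOf_dvd_natCard _ huW), fun g hg => ?_⟩
      refine Nat.not_even_iff_odd.1 fun hev => hg (hnorm g ?_)
      obtain ⟨x, ⟨hx, v, hv, hvx⟩, hxo⟩ := exists_invol_of_even hev
      have hvx' : g * v * g⁻¹ = x := hvx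
      intro y
      have h1 := hfixW x hx (ne_one_of_two hxo)
      rw [← hvx'] at h1
      conv_lhs => rw [← h1]
      rw [fix_conj, hfixW v hv fun h => ne_one_of_two hxo (by rw [← hvx', h]; group)]
    by_cases hodd : ∀ g : G, g ∉ Subgroup.normalizer (W : Set G) →
        Odd (Nat.card ↥(W.map (MulAut.conj g).toMonoidHom ⊓ Subgroup.normalizer (W : Set G)))
    · rcases Cfsg.Agent.S1911.result W htight hodd with hn | hse
      · exfalso
        rcases hn.eq_bot_or_eq_top with h | h
        · rw [h, Subgroup.mem_bot] at huW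
          exact hu1 huW
        · obtain ⟨a, ha⟩ : F.Nonempty := Set.nonempty_of_ncard_ne_zero (by omega)
          have hall : ∀ x : Ω, x = a := fun x => by
            obtain ⟨k, hk⟩ := exists_smul_eq G a x
            rw [← hk, (h.ge (Subgroup.mem_top k) : k ∈ W) a ha]
          have hsub1 : F ⊆ {a} := fun x _ => hall x
          have := Set.ncard_le_ncard hsub1 (Set.toFinite _)
          rw [Set.ncard_singleton] at this
          omega
      · refine Or.inl ⟨_, stronglyEmbedded_of_top ?_ hse⟩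
        rcases (Subgroup.normalClosure_normal (s := (W : Set G))).eq_bot_or_eq_top with h | h
        · exact absurd (Subgroup.mem_bot.1 (h.le (Subgroup.subset_normalClosure huW))) hu1
        · exact h
    · push Not at hodd
      obtain ⟨g, hg, hev⟩ := hodd
      rw [Nat.not_odd_iff_even] at hev
      obtain ⟨y, ⟨⟨v, hv, hvy⟩, hyN⟩, hyo⟩ := exists_invol_of_even hev
      have hvy' : g * v * g⁻¹ = y := hvy
      obtain ⟨h, hh, hyS⟩ := exists_conj_mem_sylow S hSF (hnorm' y hyN) (n := 1)
        (by rw [hyo, pow_one])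
      set y' : ↥(S : Subgroup G) := ⟨_, hyS⟩
      have hy'v : h * y * h⁻¹ = (h * g) * v * (h * g)⁻¹ := by rw [← hvy']; group
      have hy1 : h * y * h⁻¹ ≠ 1 := fun e => ne_one_of_two hyo (conj_eq_one_iff.1 e)
      have hv1 : v ≠ 1 := fun e => ne_one_of_two hyo (by rw [← hvy', e]; group)
      set F' : Set Ω := fixedBy Ω (h * y * h⁻¹) with hF'def
      have hF' : F'.ncard = 4 := by
        rw [hF'def, ← Nat.card_coe_set_eq, hy'v, ncard_smul_eq, hfixW v hv hv1, Nat.card_coe_set_eq,
          hF]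
      have hne : F' ≠ F := by
        intro he
        refine hg (hnorm g ?_)
        have hhg : h * g ∈ setStab G F := by
          intro x
          conv_lhs => rw [← he, hF'def, hy'v]
          rw [fix_conj, hfixW v hv hv1]
        simpa using (setStab G F).mul_mem ((setStab G F).inv_mem hh) hhg
      -- a central element of `W`
      set K : Subgroup ↥(S : Subgroup G) := W.subgroupOf (S : Subgroup G)
      haveI hK : K.Normal := (Subgroup.normal_subgroupOf_iff_le_normalizer_inf).2 ?hn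
      case hn =>
        intro s hs
        have hsN : s ∈ Subgroup.normalizer (W : Set G) := hnorm s (hSF hs)
        rw [Subgroup.mem_normalizer_iff]
        intro w
        simp only [Subgroup.mem_inf]
        exact and_congr (Subgroup.mem_normalizer_iff.1 hsN w)
          (Subgroup.mem_normalizer_iff.1 (Subgroup.le_normalizer hs) w)
      obtain ⟨z, ⟨hzW, hzc⟩, hz1⟩ := (Subgroup.bot_or_exists_ne_one _).resolve_left
        (PGroups.normal_inf_center_ne_bot S.isPGroup' K fun e => by
          have : u ∈ K := huW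
          rw [e, Subgroup.mem_bot] at this
          exact hu1' this)
      refine Or.inr (sectional_of_sylow_type S ?_)
      refine rank_of_two_sets S.isPGroup' hfree hF hF' hne (hL ▸ le_top) (u := z) ?_ hz1
        (fun p hp => hzW p hp) (y := y') (fun e => hy1 (congrArg Subtype.val e)) (fun p hp => hp)
      exact fix_setStab_of_comm (u := y') (Subgroup.mem_center_iff.1 hzc y').symm
  · -- `L < S`
    set L := setStab ↥(S : Subgroup G) F with hLdef
    haveI := S.isPGroup'.isNilpotent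
    obtain ⟨s, hsN, hsL⟩ := SetLike.exists_of_lt
      (Group.normalizerCondition_of_isNilpotent L (lt_top_iff_ne_top.2 hL))
    set F' : Set Ω := fixedBy Ω (s * u * s⁻¹) with hF'def
    have hfu : fixedBy Ω u = F := rfl
    have hF' : F'.ncard = 4 := by
      rw [hF'def, ← Nat.card_coe_set_eq, ncard_smul_eq, hfu, Nat.card_coe_set_eq, hF]
    have hne : F' ≠ F := fun he => hsL fun x => by
      conv_lhs => rw [← he, hF'def]
      rw [fix_conj, hfu]
    have hstab : ∀ t : ↥(S : Subgroup G), t ∈ setStab ↥(S : Subgroup G) F' ↔ s⁻¹ * t * s ∈ L := by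
      intro t
      constructor
      · intro ht x
        rw [← hfu, ← fix_conj (g := s), ← fix_conj (g := s) (y := x), ← mul_smul,
          show s * (s⁻¹ * t * s) = t * s by group, mul_smul]
        exact ht (s • x)
      · intro ht x
        rw [hF'def, fix_conj', fix_conj', hfu, ← mul_smul]
        have := ht (s⁻¹ • x)
        rwa [← mul_smul, show s⁻¹ * t * s * s⁻¹ = s⁻¹ * t by group] at this
    have hiff : ∀ t, s⁻¹ * t * s ∈ L ↔ t ∈ L := fun t => by
      have := (Subgroup.mem_normalizer_iff.1 hsN (s⁻¹ * t * s)).trans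
        (by rw [show s * (s⁻¹ * t * s) * s⁻¹ = t by group])
      exact this
    have huL : u ∈ L := setStab_of_subset fun p hp => by rw [show u • p = p from hp]; exact hp
    refine Or.inr (sectional_of_sylow_type S ?_)
    refine rank_of_two_sets S.isPGroup' hfree hF hF' hne ?_ (u := u) ?_ hu1' (fun p hp => hp)
      (y := s * u * s⁻¹) (fun e => hu1' (conj_eq_one_iff.1 e)) (fun p hp => hp)
    · intro t ht; exact (hiff t).1 ((hstab t).1 ht)
    · exact (hstab u).2 ((hiff u).2 huL)

end Cfsg.Agent.Lib.FixityFour61
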