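import Cfsg.Agent.S0501
import Cfsg.Agent.S1232
import Cfsg.Agent.Lib.Fusion.SectionCount
import Cfsg.Agent.Lib.PGroups.Frattini

/-!
# Fixity four: criteria for sectional rank at most four

helper61, for S3365 (`notes/s3365_plan_helper61.md`).
-/

set_option autoImplicit false

namespace Cfsg.Agent.Lib.FixityFour61

open Subgroup
open scoped commutatorElement

variable {S : Type*} [Group S]

/-- The centraliser of an element. -/
abbrev cen (y : S) : Subgroup S := centralizer ({y} : Set S)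

theorem mem_cen {y x : S} : x ∈ cen y ↔ x * y = y * x := mem_centralizer_singleton_iff

/-- An elementary abelian `2`-subgroup. -/
def IsEA (E : Subgroup S) : Prop := ∀ a ∈ E, a * a = 1

theorem IsEA.inv {E : Subgroup S} (h : IsEA E) {a : S} (ha : a ∈ E) : a⁻¹ = a :=
  inv_eq_of_mul_eq_one_right (h a ha)

theorem IsEA.comm {E : Subgroup S} (h : IsEA E) {a b : S} (ha : a ∈ E) (hb : b ∈ E) :
    a * b = b * a := by
  have := h.inv (E.mul_mem ha hb)
  rw [mul_inv_rev, h.inv ha, h.inv hb] at this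
  exact this.symm

theorem IsEA.mono {E F : Subgroup S} (h : IsEA E) (hF : F ≤ E) : IsEA F := fun a ha => h a (hF ha)

theorem IsEA.isElementary {E : Subgroup S} (h : IsEA E) : Cfsg.IsElementaryAbelian 2 E :=
  ⟨⟨⟨fun a b => Subtype.ext (h.comm a.2 b.2)⟩⟩, fun a ha => by rw [pow_two]; exact h a ha⟩

/-- Adjoining a commuting involution. -/
theorem IsEA.sup_zpowers {E : Subgroup S} (h : IsEA E) {y : S} (hy : y * y = 1)
    (hc : E ≤ cen y) : IsEA (E ⊔ zpowers y) := by
  intro x hx
  have hn : zpowers y ≤ normalizer (E : Set S) := by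
    rw [zpowers_le, mem_normalizer_iff]
    intro a
    constructor
    · intro ha
      rwa [← mem_cen.1 (hc ha), mul_inv_cancel_right]
    · intro ha
      have := mem_cen.1 (hc ha)
      rw [inv_mul_cancel_right] at this
      rw [mul_left_cancel this]
      exact ha
  rw [← SetLike.mem_coe, coe_mul_of_right_le_normalizer_left _ _ hn] at hx
  obtain ⟨a, ha, b, hb, rfl⟩ := Set.mem_mul.1 hx
  obtain ⟨n, rfl⟩ := mem_zpowers_iff.1 hb
  have hcm : Commute a (y ^ n) := Commute.zpow_right (mem_cen.1 (hc ha)) n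
  rw [Commute.mul_mul_mul_comm hcm.symm a (y ^ n), h a ha, one_mul, ← (Commute.refl y).mul_zpow,
    hy, one_zpow]

theorem two_mul_le_of_lt [Finite S] {C D : Subgroup S} (h : C < D) :
    2 * Nat.card C ≤ Nat.card D := by
  obtain ⟨k, hk⟩ := card_dvd_of_le h.le
  have hlt : Nat.card C < Nat.card D :=
    lt_of_le_of_ne (Subgroup.card_le_of_le h.le) fun e =>
      h.ne (Subgroup.eq_of_le_of_card_ge h.le e.ge)
  have hC : 0 < Nat.card C := Nat.card_pos
  rw [hk] at hlt ⊢
  have : 2 ≤ k := by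
    by_contra hk2
    have : Nat.card C * k ≤ Nat.card C * 1 := Nat.mul_le_mul_left _ (by omega)
    omega
  rw [mul_comm 2]
  exact Nat.mul_le_mul_left _ this

section Displacement

variable {E : Subgroup S} {y : S}

/-- `e ↦ e · e^y` on an elementary abelian group normalised by an involution. -/
def displ (hE : IsEA E) (hy : y * y = 1) (hn : ∀ e ∈ E, y * e * y ∈ E) :
    ↥E →* ↥(E ⊓ cen y) where
  toFun e := ⟨e * (y * e * y), E.mul_mem e.2 (hn _ e.2), mem_cen.2 (by
    calc (e : S) * (y * e * y) * y = (y * e * y * e) * y := by rw [hE.comm e.2 (hn _ e.2)]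
      _ = y * (e * (y * e * y)) := by group)⟩
  map_one' := Subtype.ext (by simp [hy])
  map_mul' a b := Subtype.ext (by
    show (a : S) * b * (y * (a * b) * y) = (a * (y * a * y)) * (b * (y * b * y))
    have h1 : y * ((a : S) * b) * y = (y * a * y) * (y * b * y) := by
      rw [show (y * (a : S) * y) * (y * b * y) = y * a * (y * y) * b * y by group, hy]; group
    rw [h1]
    exact Commute.mul_mul_mul_comm (hE.comm b.2 (hn _ a.2)) _ _)

theorem displ_ker (hE : IsEA E) (hy : y * y = 1) (hn : ∀ e ∈ E, y * e * y ∈ E) {e : ↥E} :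
    displ hE hy hn e = 1 ↔ (e : S) ∈ cen y := by
  rw [Subtype.ext_iff]
  show (e : S) * (y * e * y) = 1 ↔ _
  rw [mul_eq_one_iff_eq_inv, ← hE.inv (hn _ e.2), inv_inv, mem_cen]
  constructor
  · intro h
    calc (e : S) * y = y * e * (y * y) := by rw [← mul_assoc, ← h]
      _ = y * e := by rw [hy, mul_one]
  · intro h
    rw [← h, mul_assoc, hy, mul_one]

theorem card_eq_displ [Finite S] (hE : IsEA E) (hy : y * y = 1) (hn : ∀ e ∈ E, y * e * y ∈ E) :
    Nat.card E = Nat.card ↥(E ⊓ cen y) * Nat.card (displ hE hy hn).range := by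
  rw [← Subgroup.index_ker, ← Subgroup.card_mul_index (displ hE hy hn).ker]
  congr 1
  refine Nat.card_congr ⟨fun e => ⟨e.1.1, e.1.2, (displ_ker hE hy hn).1 e.2⟩,
    fun e => ⟨⟨e.1, e.2.1⟩, (displ_ker hE hy hn).2 e.2.2⟩, fun _ => rfl, fun _ => rfl⟩

theorem card_le_sq_fix [Finite S] (hE : IsEA E) (hy : y * y = 1) (hn : ∀ e ∈ E, y * e * y ∈ E) :
    Nat.card E ≤ Nat.card ↥(E ⊓ cen y) * Nat.card ↥(E ⊓ cen y) := by
  rw [card_eq_displ hE hy hn]
  exact Nat.mul_le_mul_left _ (Subgroup.card_le_card_group _)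

end Displacement

variable [Finite S]

/-- No elementary subgroup of order eight containing `y` in the centraliser of the involution `y`. -/
theorem rank_of_noEight (hS : IsPGroup 2 S) {y : S} (hy : y * y = 1) (hy1 : y ≠ 1)
    (h : ∀ X : Subgroup S, IsEA X → X ≤ cen y → y ∈ X → Nat.card X ≤ 4) :
    Cfsg.SectionalPRankLE 2 4 S := by
  refine Cfsg.Agent.S0501.result hS fun A hAn _ hA2 => ?_
  have hA : IsEA A := fun a ha => by rw [← pow_two]; exact hA2 a ha
  by_cases hyA : y ∈ A
  · exact h A hA (fun a ha => mem_cen.2 (hA.comm ha hyA)) hyA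
  have hn : ∀ e ∈ A, y * e * y ∈ A := fun e he => by
    have := hAn.conj_mem e he y
    rwa [inv_eq_of_mul_eq_one_right hy] at this
  set C := A ⊓ cen y with hCdef
  have hlt : C < C ⊔ zpowers y := lt_of_le_of_ne le_sup_left fun e =>
    hyA (Subgroup.mem_inf.1 (e.ge (Subgroup.mem_sup_right (mem_zpowers y)) : y ∈ C)).1
  have h4 := h _ ((hA.mono inf_le_left).sup_zpowers hy inf_le_right)
    (sup_le inf_le_right (zpowers_le.2 (mem_cen.2 rfl))) (Subgroup.mem_sup_right (mem_zpowers y))
  have h2 := two_mul_le_of_lt hlt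
  rw [← hCdef] at h4
  have hC2 : Nat.card C ≤ 2 := by omega
  exact (card_le_sq_fix hA hy hn).trans (Nat.mul_le_mul hC2 hC2)

/-- A self-centralising elementary subgroup of order eight. -/
theorem rank_of_eight (hS : IsPGroup 2 S) {X : Subgroup S} (hX : IsEA X) (h8 : Nat.card X = 8)
    (hC : centralizer (X : Set S) ≤ X) : Cfsg.SectionalPRankLE 2 4 S :=
  Cfsg.Agent.S1232.result hS X hX.isElementary h8
    (le_antisymm hC fun a ha => mem_centralizer_iff.2 fun b hb => hX.comm hb ha)

/-- A group of order at most `128` without elementary subgroups of order `32` in which every subgroup of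
order at least `64` has an element with centraliser of order at most `16`. -/
theorem rank_of_small (hS : IsPGroup 2 S) (hle : Nat.card S ≤ 128)
    (hX : ∀ X : Subgroup S, IsEA X → 32 ≤ Nat.card X → False)
    (hH : ∀ H : Subgroup S, 64 ≤ Nat.card H → ∃ h ∈ H, Nat.card (cen h) ≤ 16) :
    Cfsg.SectionalPRankLE 2 4 S := by
  haveI : Fact (Nat.Prime 2) := ⟨Nat.prime_two⟩
  obtain ⟨P, hP⟩ := (hS.to_subgroup ⊤).exists_le_sylow
  refine Cfsg.Agent.Lib.Fusion.SectionCount.sectional_of_sylow P fun H K _ hk => ?_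
  by_contra hlt
  rw [not_le] at hlt
  obtain ⟨a, ha⟩ := IsPGroup.iff_card.1 (hS.to_subgroup H)
  obtain ⟨b, hb⟩ := IsPGroup.iff_card.1 (hS.to_subgroup K)
  have hab : b + 5 ≤ a := by
    rw [ha, hb, ← pow_add] at hlt
    have := (Nat.pow_lt_pow_iff_right (by norm_num : 1 < 2)).1 hlt
    omega
  rcases Nat.eq_zero_or_pos b with hb0 | hb0
  · have hK : K = ⊥ := Subgroup.card_eq_one.1 (by rw [hb, hb0, pow_zero])
    refine hX H (fun x hx => ?_) ?_
    · have := hk.sq x hx
      rwa [hK, mem_bot] at this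
    · rw [ha]
      calc (32 : ℕ) = 2 ^ 5 := by norm_num
        _ ≤ 2 ^ a := Nat.pow_le_pow_right (by norm_num) (by omega)
  · obtain ⟨h, hhH, hc⟩ := hH H (by
      rw [ha]
      calc (64 : ℕ) = 2 ^ 6 := by norm_num
        _ ≤ 2 ^ a := Nat.pow_le_pow_right (by norm_num) (by omega))
    let f : ↥H ⧸ (cen h).subgroupOf H → ↥K := Quotient.lift
      (fun x : ↥H => (⟨⁅(x : S), h⁆, hk.comm x x.2 h hhH⟩ : ↥K)) (fun x y hxy => by
        have hxy' := QuotientGroup.leftRel_apply.1 hxy
        rw [mem_subgroupOf, mem_cen] at hxy'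
        refine Subtype.ext ?_
        show ⁅(x : S), h⁆ = ⁅(y : S), h⁆
        push_cast at hxy'
        have e : (y : S) = x * ((x : S)⁻¹ * y) := by group
        generalize ((x : S)⁻¹ * y) = c at hxy' e
        rw [e, commutatorElement_def, commutatorElement_def,
          show (x : S) * c * h * ((x : S) * c)⁻¹ * h⁻¹ = x * (c * h) * c⁻¹ * (x : S)⁻¹ * h⁻¹ by group,
          hxy']
        group)
    have hf : Function.Injective f := by
      rintro ⟨x⟩ ⟨y⟩ hxy
      have hxy' : ⁅(x : S), h⁆ = ⁅(y : S), h⁆ := congrArg Subtype.val hxy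
      rw [commutatorElement_def, commutatorElement_def] at hxy'
      have h1 : (x : S) * h * (x : S)⁻¹ = y * h * (y : S)⁻¹ := mul_right_cancel hxy'
      refine Quotient.sound (QuotientGroup.leftRel_apply.2 ?_)
      rw [mem_subgroupOf, mem_cen]
      push_cast
      calc (x : S)⁻¹ * y * h = (x : S)⁻¹ * (y * h * (y : S)⁻¹) * y := by group
        _ = h * ((x : S)⁻¹ * y) := by rw [← h1]; group
    have hq := Nat.card_le_card_of_injective f hf
    have hsub : Nat.card ((cen h).subgroupOf H) ≤ 16 := by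
      refine le_trans ?_ hc
      exact Nat.card_le_card_of_injective
        (fun x => (⟨x.1.1, mem_subgroupOf.1 x.2⟩ : cen h))
        (fun x y hxy => Subtype.ext (Subtype.ext (by simpa using congrArg Subtype.val hxy)))
    have hm := Subgroup.card_mul_index ((cen h).subgroupOf H)
    rw [Subgroup.index] at hm
    have : Nat.card H ≤ 16 * Nat.card K := hm ▸ Nat.mul_le_mul hsub hq
    rw [ha, hb] at this
    have h5 : 2 ^ (b + 5) ≤ 2 ^ a := Nat.pow_le_pow_right (by norm_num) hab
    rw [pow_add] at h5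
    have : 0 < 2 ^ b := by positivity
    omega

/-- Sectional rank from a Sylow subgroup. -/
theorem sectional_of_sylow_type {G : Type*} [Group G] [Finite G] (P : Sylow 2 G)
    (h : Cfsg.SectionalPRankLE 2 4 ↥(P : Subgroup G)) : Cfsg.SectionalPRankLE 2 4 G := by
  refine Cfsg.Agent.Lib.Fusion.SectionCount.sectional_of_sylow P fun H K hHP hk => ?_
  let H' := H.subgroupOf (P : Subgroup G)
  let N : Subgroup ↥H' := (K.subgroupOf (P : Subgroup G)).subgroupOf H'
  have hmem : ∀ {x : ↥H'}, x ∈ N ↔ ((x : ↥(P : Subgroup G)) : G) ∈ K := Iff.rfl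
  haveI hN : N.Normal := ⟨fun n hn g => by
    rw [hmem] at hn ⊢
    push_cast
    have := K.mul_mem (hk.comm _ (mem_subgroupOf.1 g.2) _ (hk.le hn)) hn
    rwa [commutatorElement_def, inv_mul_cancel_right] at this⟩
  have hsq : ∀ q : ↥H' ⧸ N, q * q = 1 := by
    intro q
    obtain ⟨x, rfl⟩ := QuotientGroup.mk'_surjective N q
    rw [← map_mul, QuotientGroup.mk'_apply, QuotientGroup.eq_one_iff, hmem]
    exact hk.sq _ (mem_subgroupOf.1 x.2)
  have hEA : IsEA (⊤ : Subgroup (↥H' ⧸ N)) := fun q _ => hsq q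
  have h16 := h H' N ⊤ hEA.isElementary.1 hEA.isElementary.2
  rw [Nat.card_congr Subgroup.topEquiv.toEquiv] at h16
  have hH' : Nat.card H' = Nat.card H := Nat.card_congr (subgroupOfEquivOfLe hHP).toEquiv
  have hN' : Nat.card N = Nat.card K := by
    refine Nat.card_congr ⟨fun x => ⟨_, hmem.1 x.2⟩,
      fun x => ⟨⟨⟨x.1, hHP (hk.le x.2)⟩, hk.le x.2⟩, x.2⟩, fun _ => rfl, fun _ => rfl⟩
  have hm := Subgroup.card_mul_index N
  rw [Subgroup.index, hH', hN'] at hm
  rw [← hm, mul_comm]
  exact Nat.mul_le_mul_right _ h16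

/-- A `2`-subgroup normalising a layer fixes a nontrivial element of it. -/
theorem exists_fixed_mod (hS : IsPGroup 2 S) {A N M : Subgroup S} (hNM : N ≤ M) (hne : N ≠ M)
    (hAN : A ≤ normalizer (N : Set S)) (hAM : A ≤ normalizer (M : Set S))
    (hMN : M ≤ normalizer (N : Set S)) :
    ∃ x ∈ M, x ∉ N ∧ ∀ a ∈ A, ⁅a, x⁆ ∈ N := by
  haveI : Fact (Nat.Prime 2) := ⟨Nat.prime_two⟩
  set H : Subgroup S := A ⊔ M with hH
  have hHN : H ≤ normalizer (N : Set S) := sup_le hAN hMN
  have hHM : H ≤ normalizer (M : Set S) := sup_le hAM le_normalizer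
  have hNH : N ≤ H := hNM.trans le_sup_right
  haveI hn : (N.subgroupOf H).Normal := (normal_subgroupOf_iff_le_normalizer hNH).2 hHN
  haveI hm : (M.subgroupOf H).Normal :=
    (normal_subgroupOf_iff_le_normalizer (le_sup_right : M ≤ H)).2 hHM
  haveI : ((M.subgroupOf H).map (QuotientGroup.mk' (N.subgroupOf H))).Normal :=
    hm.map _ (QuotientGroup.mk'_surjective _)
  have hbot : (M.subgroupOf H).map (QuotientGroup.mk' (N.subgroupOf H)) ≠ ⊥ := by
    rw [Ne, Subgroup.map_eq_bot_iff, QuotientGroup.ker_mk']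
    intro hle
    refine hne (le_antisymm hNM fun x hx => ?_)
    exact mem_subgroupOf.1 (hle (x := ⟨x, le_sup_right (a := A) hx⟩) hx)
  obtain ⟨q, ⟨⟨w, hw, rfl⟩, hqc⟩, hq1⟩ := (Subgroup.bot_or_exists_ne_one _).resolve_left
    (PGroups.normal_inf_center_ne_bot ((hS.to_subgroup H).to_quotient _) _ hbot)
  refine ⟨w, hw, fun hwN => hq1 ((QuotientGroup.eq_one_iff w).2 hwN), fun a ha => ?_⟩
  have ha' : a ∈ H := le_sup_left (b := M) ha
  have h1 : QuotientGroup.mk' (N.subgroupOf H) ⁅(⟨a, ha'⟩ : ↥H), w⁆ = 1 := by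
    rw [map_commutatorElement, commutatorElement_eq_one_iff_mul_comm]
    exact Subgroup.mem_center_iff.1 hqc _
  rw [QuotientGroup.mk'_apply, QuotientGroup.eq_one_iff, mem_subgroupOf] at h1
  exact h1

end Cfsg.Agent.Lib.FixityFour61
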